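import Cfsg.Agent.Lib.Involutions.RankOne.U3.WNeBot.Small
import Cfsg.Agent.Lib.Involutions.RankOne.Fusion
import Cfsg.Agent.Lib.Tsuzuku.Counting

/-!
# The case `q = 8`: a Sylow 3-subgroup of the centralizer is too big

`R`, the Sylow 3-subgroup of `C_G(v)`, is normal there of order 27 and `v` is central in it; the
conjugates of `v` under the normalizer of `R` number 9, so `3 ^ 5` would divide `|G|`.
-/

set_option autoImplicit false
set_option linter.unusedSectionVars false
set_option linter.style.haveILetI false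

namespace Cfsg.Agent.Involutions.RankOne.U3.WNeBot

open MulAction Involutions.Basic

variable {G Ω : Type*} [Group G] [Finite G] [MulAction G Ω] [FaithfulSMul G Ω]
  {a : Ω} {t : G} {Q : Subgroup G}

local notation "H" => MulAction.stabilizer G a
local notation "D" => (MulAction.stabilizer G a ⊓ MulAction.stabilizer G (t • a))
set_option quotPrecheck false in
local notation "V" => (D ⊓ Subgroup.centralizer ({t} : Set G))

namespace Small

variable {C : Ctx G Ω a t Q} {v : G} {p : ℕ} (S : Small C v p)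
include S

theorem v_D : v ∈ D := (Subgroup.mem_inf.1 S.mem).1

theorem v_ne : v ≠ 1 := fun e => S.prime.ne_one (by rw [← S.order, e, orderOf_one])

theorem fix_E_eq {x y : G} (hx : x ∈ C.E) (hxv : x * v = v * x) (hx1 : x ≠ 1)
    (hy : y ∈ C.E) (hyv : y * v = v * y) (hy1 : y ≠ 1) : x = y := by
  by_contra hne
  have hinj : Function.Injective (![⟨1, one_mem _⟩,
      ⟨x, Subgroup.mem_inf.2 ⟨hx, Subgroup.mem_centralizer_singleton_iff.2 hxv⟩⟩,
      ⟨y, Subgroup.mem_inf.2 ⟨hy, Subgroup.mem_centralizer_singleton_iff.2 hyv⟩⟩] :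
      Fin 3 → ↥(C.E ⊓ Subgroup.centralizer ({v} : Set G))) := by
    intro i j e
    fin_cases i <;> fin_cases j <;>
      first
        | rfl
        | exact absurd (congrArg Subtype.val e) (by
            simp only [Matrix.cons_val_zero, Matrix.cons_val_one, Matrix.cons_val]
            first
              | exact Ne.symm hx1
              | exact hx1
              | exact Ne.symm hy1
              | exact hy1
              | exact hne
              | exact Ne.symm hne)
  have := Nat.card_le_card_of_injective _ hinj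
  rw [S.card_fix_E] at this
  simp at this

theorem cent_D {d : G} (hd : d ∈ D) (hdv : d * v = v * d) : d ∈ Subgroup.zpowers v := by
  have hS := C.hS
  obtain ⟨c, k, hc, hct, hk, rfl⟩ :=
    InvertedSet.exists_decomp hS.odd_card hS.mul_self (fun x hx => t_conj_mem_D hS hx) hd
  have hcv : c ∈ Subgroup.zpowers v :=
    S.gen.symm ▸ Subgroup.mem_inf.2 ⟨hc, InvertedSet.mem_cent.2 hct⟩
  have hcomm : Commute v c := by
    obtain ⟨i, rfl⟩ := hcv
    exact Commute.self_zpow v i
  have hkv : Commute k v := by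
    have h1 : Commute (c * k) v := hdv
    simpa using (hcomm.symm.inv_left.mul_left h1)
  obtain ⟨s, hs, hs1, hV⟩ := C.exists_s
  have hsv : Commute s v := ((hV v S.v_D).1 S.mem).symm
  have h2 : k * s * k⁻¹ = s := S.fix_E_eq (C.conj_E hk.1.1 hs)
    ((hkv.mul_left hsv).mul_left hkv.inv_left).eq (fun e => hs1 (conj_eq_one_iff.1 e)) hs hsv.eq hs1
  have hk1 : k = 1 := K_conj_injective hS (hs.resolve_left hs1) hk (one_mem_K hS) (by
    rw [h2]; group)
  rwa [hk1, mul_one]

theorem split_H {x : G} (hx : x ∈ H) (hxv : x * v = v * x) :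
    ∃ q ∈ Q, ∃ w ∈ Subgroup.zpowers v, q * v = v * q ∧ x = q * w := by
  have hS := C.hS
  obtain ⟨q, hq, d, hd, rfl⟩ := exists_decomp hS hx
  have h := eq_of_decomp hS (hS.conj_mem v S.v_D.1 q hq) hq
    (mul_mem (mul_mem S.v_D hd) (inv_mem S.v_D)) hd (by
      calc v * q * v⁻¹ * (v * d * v⁻¹) = v * (q * d) * v⁻¹ := by group
        _ = q * d := by rw [← hxv]; group)
  exact ⟨q, hq, d, S.cent_D hd (mul_inv_eq_iff_eq_mul.1 h.2).symm,
    (mul_inv_eq_iff_eq_mul.1 h.1).symm, rfl⟩

theorem card_cent_H : Nat.card ↥(Subgroup.centralizer ({v} : Set G) ⊓ H) = 8 * p := by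
  have e : Nat.card (↥(Q ⊓ Subgroup.centralizer ({v} : Set G)) × ↥(Subgroup.zpowers v)) =
      Nat.card ↥(Subgroup.centralizer ({v} : Set G) ⊓ H) := by
    refine Nat.card_eq_of_bijective (fun x => ⟨(x.1 : G) * x.2, Subgroup.mem_inf.2
      ⟨mul_mem (Subgroup.mem_inf.1 x.1.2).2 (Subgroup.mem_centralizer_singleton_iff.2 ?_),
        mul_mem (C.hS.le (Subgroup.mem_inf.1 x.1.2).1)
          (Subgroup.zpowers_le.2 (S.v_D.1 : v ∈ H) x.2.2)⟩⟩) ⟨?_, ?_⟩
    · obtain ⟨i, hi⟩ := x.2.2
      rw [← hi]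
      exact (Commute.zpow_self v i).eq
    · intro x y e
      have hzD : Subgroup.zpowers v ≤ D := Subgroup.zpowers_le.2 S.v_D
      obtain ⟨e1, e2⟩ := eq_of_decomp C.hS (Subgroup.mem_inf.1 x.1.2).1 (Subgroup.mem_inf.1 y.1.2).1
        (hzD x.2.2) (hzD y.2.2) (congrArg Subtype.val e)
      exact Prod.ext (Subtype.ext e1) (Subtype.ext e2)
    · rintro ⟨x, hxv, hxH⟩
      obtain ⟨q, hq, w, hw, hqv, rfl⟩ := S.split_H hxH (Subgroup.mem_centralizer_singleton_iff.1 hxv)
      exact ⟨(⟨q, Subgroup.mem_inf.2 ⟨hq, Subgroup.mem_centralizer_singleton_iff.2 hqv⟩⟩, ⟨w, hw⟩), rfl⟩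
  rw [← e, Nat.card_prod, S.card_fix, Nat.card_zpowers, S.order]

theorem exists_cent_to {c : Ω} (hc : v • c = c) :
    ∃ g ∈ Subgroup.centralizer ({v} : Set G), g • a = c := by
  by_cases hca : c = a
  · exact ⟨1, one_mem _, by rw [one_smul, hca]⟩
  · obtain ⟨q, hq, hqc⟩ := exists_q C.hS hca
    have hqv := q_centralizes C.hS (X := {v}) (Set.singleton_subset_iff.2 S.v_D) hq
      (by rintro y (rfl : y = v); rw [hqc]; exact hc)
    exact ⟨q * t, mul_mem hqv (Subgroup.mem_centralizer_singleton_iff.2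
      (Subgroup.mem_centralizer_singleton_iff.1 (Subgroup.mem_inf.1 S.mem).2).symm),
      by rw [mul_smul, hqc]⟩

theorem smul_fix {g : G} (hg : g ∈ Subgroup.centralizer ({v} : Set G)) {c : Ω} (hc : v • c = c) :
    v • g • c = g • c := by
  rw [smul_smul, ← Subgroup.mem_centralizer_singleton_iff.1 hg, mul_smul, hc]

theorem two_fixed {x : G} (hxv : x ∈ Subgroup.centralizer ({v} : Set G)) {c c' : Ω}
    (hc : v • c = c) (hc' : v • c' = c') (hne : c ≠ c') (h : x • c = c) (h' : x • c' = c') :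
    x ∈ Subgroup.zpowers v := by
  have hS := C.hS
  obtain ⟨g, hg, hga⟩ := S.exists_cent_to hc
  have hd : v • (g⁻¹ • c') = g⁻¹ • c' := S.smul_fix (inv_mem hg) hc'
  have hda : g⁻¹ • c' ≠ a := fun e => hne (by rw [← hga, ← e, smul_inv_smul])
  obtain ⟨q, hq, hqd⟩ := exists_q hS hda
  have hqv := q_centralizes hS (X := {v}) (Set.singleton_subset_iff.2 S.v_D) hq
    (by rintro y (rfl : y = v); rw [hqd]; exact hd)
  have hgq : g * q ∈ Subgroup.centralizer ({v} : Set G) := mul_mem hg hqv
  have h1 : (g * q) • a = c := by rw [mul_smul, show q • a = a from hS.le hq, hga]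
  have h2 : (g * q) • (t • a) = c' := by rw [mul_smul, hqd, smul_inv_smul]
  have hmem : (g * q)⁻¹ * x * (g * q) ∈ D := by
    refine ⟨?_, ?_⟩
    · show ((g * q)⁻¹ * x * (g * q)) • a = a
      rw [mul_smul, h1, mul_smul, h, inv_smul_eq_iff, h1]
    · show ((g * q)⁻¹ * x * (g * q)) • (t • a) = t • a
      rw [mul_smul, h2, mul_smul, h', inv_smul_eq_iff, h2]
  obtain ⟨i, hi⟩ := S.cent_D hmem
    (Subgroup.mem_centralizer_singleton_iff.1 (mul_mem (mul_mem (inv_mem hgq) hxv) hgq))
  refine ⟨i, ?_⟩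
  have hc1 : Commute (g * q) (v ^ i) :=
    (show Commute (g * q) v from Subgroup.mem_centralizer_singleton_iff.1 hgq).zpow_right i
  show v ^ i = x
  calc v ^ i = (g * q) * v ^ i * (g * q)⁻¹ := by rw [hc1.eq, mul_inv_cancel_right]
    _ = (g * q) * ((g * q)⁻¹ * x * (g * q)) * (g * q)⁻¹ := by rw [show v ^ i = _ from hi]
    _ = x := by group

/-- An element of `C(v)` with a fixed point and of order dividing 27 is a power of `v`. -/
theorem three_elt {x : G} (hxv : x ∈ Subgroup.centralizer ({v} : Set G)) (h27 : x ^ 27 = 1)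
    (hp3 : p = 3) {c : Ω} (hc : v • c = c) (hxc : x • c = c) : x ∈ Subgroup.zpowers v := by
  obtain ⟨g, hg, hga⟩ := S.exists_cent_to hc
  have hH : g⁻¹ * x * g ∈ H := by
    show (g⁻¹ * x * g) • a = a
    rw [mul_smul, hga, mul_smul, hxc, inv_smul_eq_iff, hga]
  obtain ⟨q, hq, w, hw, hqv, he⟩ := S.split_H hH
    (Subgroup.mem_centralizer_singleton_iff.1 (mul_mem (mul_mem (inv_mem hg) hxv) hg))
  obtain ⟨i, rfl⟩ := hw
  have hv27 : v ^ 27 = 1 := by
    rw [show 27 = orderOf v * 9 by rw [S.order, hp3], pow_mul, pow_orderOf_eq_one, one_pow]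
  have hq27 : q ^ 27 = 1 := by
    have hc1 : Commute q (v ^ i) := (show Commute q v from hqv).zpow_right i
    have h1 : (g⁻¹ * x * g) ^ 27 = 1 := by
      have := conj_pow (a := g⁻¹) (b := x) (i := 27)
      rw [inv_inv] at this
      rw [this, h27]
      group
    rw [he, hc1.mul_pow, ← zpow_natCast (v ^ i), ← zpow_mul, mul_comm i, zpow_mul, zpow_natCast,
      hv27, one_zpow, mul_one] at h1
    exact h1
  have hq1 : q = 1 := by
    calc q = q ^ 28 := by rw [pow_succ, hq27, one_mul]
      _ = 1 := by rw [show 28 = 4 * 7 by norm_num, pow_mul, C.exp q hq, one_pow]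
  rw [hq1, one_mul] at he
  refine ⟨i, ?_⟩
  have hc1 : Commute g (v ^ i) :=
    (show Commute g v from Subgroup.mem_centralizer_singleton_iff.1 hg).zpow_right i
  show v ^ i = x
  calc v ^ i = g * v ^ i * g⁻¹ := by rw [hc1.eq, mul_inv_cancel_right]
    _ = g * (g⁻¹ * x * g) * g⁻¹ := by rw [show v ^ i = _ from he.symm]
    _ = x := by group

/-- The Sylow 3-subgroup of `C(v)` when `q = 8`. -/
theorem exists_R (hp3 : p = 3) : ∃ R : Subgroup G, R ≤ Subgroup.centralizer ({v} : Set G) ∧
    Nat.card R = 27 ∧ v ∈ R ∧ (∀ m ∈ Subgroup.centralizer ({v} : Set G), ∀ r ∈ R, m * r * m⁻¹ ∈ R) ∧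
      Nat.card ↥(Subgroup.centralizer ({v} : Set G)) = 216 := by
  classical
  have hS := C.hS
  haveI := finite_points hS
  set M := Subgroup.centralizer ({v} : Set G) with hM
  choose gc hgc hgca using fun c : {c : Ω // v • c = c} => S.exists_cent_to c.2
  have hcardM : Nat.card M = 216 := by
    have e : Nat.card ({c : Ω // v • c = c} × ↥(M ⊓ H)) = Nat.card M := by
      refine Nat.card_eq_of_bijective
        (fun x => (⟨gc x.1 * x.2, mul_mem (hgc x.1) (Subgroup.mem_inf.1 x.2.2).1⟩ : M)) ⟨?_, ?_⟩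
      · rintro ⟨c, h⟩ ⟨c', h'⟩ e
        have e1 : gc c * (h : G) = gc c' * h' := congrArg Subtype.val e
        have h1 : c = c' := Subtype.ext (by
          have := congrArg (· • a) e1
          simpa only [mul_smul, show (h : G) • a = a from (Subgroup.mem_inf.1 h.2).2,
            show (h' : G) • a = a from (Subgroup.mem_inf.1 h'.2).2, hgca] using this)
        subst h1
        exact Prod.ext rfl (Subtype.ext (mul_left_cancel e1))
      · intro m
        let c : {c : Ω // v • c = c} := ⟨(m : G) • a, S.smul_fix m.2 S.v_D.1⟩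
        refine ⟨(c, ⟨(gc c)⁻¹ * m, Subgroup.mem_inf.2 ⟨mul_mem (inv_mem (hgc c)) m.2, ?_⟩⟩),
          Subtype.ext (mul_inv_cancel_left _ _)⟩
        show ((gc c)⁻¹ * m) • a = a
        rw [mul_smul, inv_smul_eq_iff, hgca]
    rw [← e, Nat.card_prod, S.card_fixed_points, S.card_cent_H, hp3]
  let T : Set M := {x | (x : G) ∈ Subgroup.zpowers v ∨ ∀ c : Ω, v • c = c → (x : G) • c ≠ c}
  have hT : T.ncard ≤ 27 := by
    have hbad : Nat.card ({c : Ω // v • c = c} ×
        {h : ↥(M ⊓ H) // (h : G) ∉ Subgroup.zpowers v}) ≤ Tᶜ.ncard := by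
      rw [← Nat.card_coe_set_eq]
      refine Nat.card_le_card_of_injective (fun x => ⟨⟨gc x.1 * x.2.1 * (gc x.1)⁻¹,
        mul_mem (mul_mem (hgc x.1) (Subgroup.mem_inf.1 x.2.1.2).1) (inv_mem (hgc x.1))⟩, ?_⟩) ?_
      · rintro (h | h)
        · obtain ⟨i, hi⟩ := h
          refine x.2.2 ⟨i, ?_⟩
          have hc1 : Commute (gc x.1) (v ^ i) := (show Commute (gc x.1) v from
            Subgroup.mem_centralizer_singleton_iff.1 (hgc x.1)).zpow_right i
          show v ^ i = _
          calc v ^ i = (gc x.1)⁻¹ * v ^ i * gc x.1 := by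
                rw [mul_assoc, ← hc1.eq, inv_mul_cancel_left]
            _ = (gc x.1)⁻¹ * (gc x.1 * (x.2.1 : G) * (gc x.1)⁻¹) * gc x.1 := by
                rw [show v ^ i = _ from hi]
            _ = _ := by group
        · refine h x.1 x.1.2 ?_
          show (gc x.1 * (x.2.1 : G) * (gc x.1)⁻¹) • (x.1 : Ω) = x.1
          conv_lhs => rw [← hgca x.1]
          rw [mul_smul, mul_smul, inv_smul_smul,
            show (x.2.1 : G) • a = a from (Subgroup.mem_inf.1 x.2.1.2).2, hgca]
      · rintro ⟨c, h⟩ ⟨c', h'⟩ e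
        have e1 : gc c * (h.1 : G) * (gc c)⁻¹ = gc c' * (h'.1 : G) * (gc c')⁻¹ :=
          congrArg Subtype.val (congrArg Subtype.val e)
        have hfix : ∀ (c : {c : Ω // v • c = c}) (h : ↥(M ⊓ H)),
            (gc c * (h : G) * (gc c)⁻¹) • (c : Ω) = c := fun c h => by
          conv_lhs => rw [← hgca c]
          rw [mul_smul, mul_smul, inv_smul_smul,
            show (h : G) • a = a from (Subgroup.mem_inf.1 h.2).2, hgca]
        have h1 : c = c' := by
          by_contra hne
          obtain ⟨i, hi⟩ := S.two_fixed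
            (mul_mem (mul_mem (hgc c) (Subgroup.mem_inf.1 h.1.2).1) (inv_mem (hgc c))) c.2 c'.2
            (fun e => hne (Subtype.ext e)) (hfix c h.1) (e1 ▸ hfix c' h'.1)
          refine h.2 ⟨i, ?_⟩
          have hc1 : Commute (gc c) (v ^ i) := (show Commute (gc c) v from
            Subgroup.mem_centralizer_singleton_iff.1 (hgc c)).zpow_right i
          show v ^ i = _
          calc v ^ i = (gc c)⁻¹ * v ^ i * gc c := by rw [mul_assoc, ← hc1.eq, inv_mul_cancel_left]
            _ = (gc c)⁻¹ * (gc c * (h.1 : G) * (gc c)⁻¹) * gc c := by rw [show v ^ i = _ from hi]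
            _ = _ := by group
        subst h1
        exact Prod.ext rfl (Subtype.ext (Subtype.ext (mul_left_cancel (mul_right_cancel e1))))
    have h21 : Nat.card {h : ↥(M ⊓ H) // (h : G) ∉ Subgroup.zpowers v} = 21 := by
      have hle : Subgroup.zpowers v ≤ M ⊓ H := Subgroup.zpowers_le.2 (Subgroup.mem_inf.2
        ⟨Subgroup.mem_centralizer_singleton_iff.2 rfl, S.v_D.1⟩)
      have h3 : Nat.card {h : ↥(M ⊓ H) // (h : G) ∈ Subgroup.zpowers v} = 3 := by
        rw [← hp3, ← S.order, ← Nat.card_zpowers]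
        exact Nat.card_congr
          { toFun := fun h => ⟨_, h.2⟩
            invFun := fun h => ⟨⟨h.1, hle h.2⟩, h.2⟩
            left_inv := fun _ => rfl
            right_inv := fun _ => rfl }
      haveI := Fintype.ofFinite ↥(M ⊓ H)
      rw [Nat.card_eq_fintype_card, Fintype.card_subtype_compl, ← Nat.card_eq_fintype_card,
        ← Nat.card_eq_fintype_card, h3, S.card_cent_H, hp3]
    rw [Nat.card_prod, h21, S.card_fixed_points] at hbad
    have h := Set.ncard_add_ncard_compl T
    rw [hcardM] at h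
    omega
  haveI : Fact (Nat.Prime 3) := ⟨Nat.prime_three⟩
  have hcardP : ∀ P : Sylow 3 M, Nat.card (P : Subgroup M) = 27 := fun P => by
    rw [P.card_eq_multiplicity, hcardM,
      show (216 : ℕ) = 3 ^ 3 * 8 by norm_num, Nat.factorization_mul (by norm_num) (by norm_num),
      Finsupp.add_apply, Nat.Prime.factorization_pow Nat.prime_three,
      Nat.factorization_eq_zero_of_not_dvd (n := 8) (p := 3) (by norm_num)]
    simp
  have hPT : ∀ P : Sylow 3 M, ((P : Subgroup M) : Set M) = T := fun P => by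
    refine Set.eq_of_subset_of_ncard_le (fun x hx => ?_) ?_ (Set.toFinite _)
    · by_cases hfix : ∃ c : Ω, v • c = c ∧ (x : G) • c = c
      · obtain ⟨c, hc, hxc⟩ := hfix
        refine Or.inl (S.three_elt x.2 ?_ hp3 hc hxc)
        have h1 : x ^ 27 = 1 := by
          rw [← hcardP P]
          exact congrArg Subtype.val (pow_card_eq_one' (x := (⟨x, hx⟩ : (P : Subgroup M))))
        exact congrArg Subtype.val h1
      · push Not at hfix
        exact Or.inr hfix
    · rw [show ((P : Subgroup M) : Set M).ncard = 27 from hcardP P]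
      exact hT
  obtain ⟨P⟩ : Nonempty (Sylow 3 M) := inferInstance
  haveI : Subsingleton (Sylow 3 M) :=
    ⟨fun P P' => Sylow.ext (SetLike.coe_injective ((hPT P).trans (hPT P').symm))⟩
  haveI hPn : (P : Subgroup M).Normal := P.normal_of_subsingleton
  refine ⟨(P : Subgroup M).map M.subtype, Subgroup.map_subtype_le _, ?_, ?_, ?_, hcardM⟩
  · rw [Subgroup.card_map_of_injective M.subtype_injective, hcardP]
  · refine ⟨⟨v, Subgroup.mem_centralizer_singleton_iff.2 rfl⟩, ?_, rfl⟩
    exact (Set.ext_iff.1 (hPT P) _).2 (Or.inl (Subgroup.mem_zpowers v))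
  · rintro m hm _ ⟨r, hr, rfl⟩
    exact ⟨⟨m, hm⟩ * r * ⟨m, hm⟩⁻¹, hPn.conj_mem r hr _, rfl⟩

theorem false_of_three (hp3 : p = 3) : False := by
  classical
  have hS := C.hS
  obtain ⟨R, hRM, hR27, hvR, hRn, hM216⟩ := S.exists_R hp3
  set N := Subgroup.normalizer (R : Set G) with hN
  set M := Subgroup.centralizer ({v} : Set G) with hM
  have hMN : M ≤ N := Subgroup.le_normalizer_iff.2 fun m hm r hr => hRn m hm r hr
  letI act : MulAction ↥N G := MulAction.compHom G ((MulAut.conj).comp N.subtype)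
  have hact : ∀ (n : N) (x : G), n • x = (n : G) * x * (n : G)⁻¹ := fun n x => rfl
  set O := MulAction.orbit ↥N v with hO
  have hNO : Nat.card N = O.ncard * 216 := by
    rw [← Subgroup.card_mul_index (MulAction.stabilizer ↥N v), MulAction.index_stabilizer,
      ← hM216, mul_comm]
    congr 1
    refine Nat.card_congr
      { toFun := fun x => ⟨(x.1 : G), Subgroup.mem_centralizer_singleton_iff.2
          (mul_inv_eq_iff_eq_mul.1 ((hact x.1 v).symm.trans x.2))⟩
        invFun := fun m => ⟨⟨m.1, hMN m.2⟩, (hact _ v).trans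
          (mul_inv_eq_iff_eq_mul.2 (Subgroup.mem_centralizer_singleton_iff.1 m.2))⟩
        left_inv := fun _ => rfl
        right_inv := fun _ => rfl }
  have hcent : ∀ y ∈ O, y ∈ R ∧ ∀ r ∈ R, y * r = r * y := by
    rintro y ⟨n, rfl⟩
    show n • v ∈ R ∧ _
    rw [hact]
    refine ⟨(Subgroup.mem_normalizer_iff.1 n.2 v).1 hvR, fun r hr => ?_⟩
    show (n • v) * r = r * (n • v)
    rw [hact]
    have h1 : (n : G)⁻¹ * r * n ∈ R := by
      have := (Subgroup.mem_normalizer_iff.1 (inv_mem n.2) r).1 hr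
      simpa using this
    have h2 := Subgroup.mem_centralizer_singleton_iff.1 (hRM h1)
    calc (n : G) * v * (n : G)⁻¹ * r = n * (v * ((n : G)⁻¹ * r * n)) * (n : G)⁻¹ := by group
      _ = n * (((n : G)⁻¹ * r * n) * v) * (n : G)⁻¹ := by rw [h2]
      _ = r * ((n : G) * v * (n : G)⁻¹) := by group
  have hvv : ∀ y ∈ O, y ∈ Subgroup.zpowers v → y = v := by
    rintro y ⟨n, rfl⟩ hy
    rw [S.gen] at hy
    have hy' : (n : G) * v * (n : G)⁻¹ ∈ V := hy
    obtain ⟨u, hu, he⟩ := fusion_V hS (X := {v}) (Set.singleton_subset_iff.2 S.mem) (g := (n : G))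
      (by rw [Set.image_singleton]; exact Set.singleton_subset_iff.2 hy')
    rw [Set.image_singleton, Set.image_singleton, Set.singleton_eq_singleton_iff] at he
    show n • v = v
    rw [hact, ← he]
    rw [← S.gen] at hu
    obtain ⟨i, rfl⟩ := hu
    rw [(Commute.zpow_self v i).eq, mul_inv_cancel_right]
  have hdvd : 8 ∣ Nat.card {y : G // y ∈ O ∧ y ≠ v} := by
    let U := Q ⊓ M
    have hUN : U ≤ N := inf_le_right.trans hMN
    letI actU : MulAction ↥U {y : G // y ∈ O ∧ y ≠ v} :=
      { smul := fun u y => ⟨(u : G) * y.1 * (u : G)⁻¹, by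
          refine ⟨?_, fun e => y.2.2 ?_⟩
          · have h1 : (⟨u.1, hUN u.2⟩ : N) • y.1 ∈ O :=
              MulAction.mem_orbit_of_mem_orbit _ y.2.1
            exact h1
          · have hc : (u : G) * v = v * u :=
              Subgroup.mem_centralizer_singleton_iff.1 (Subgroup.mem_inf.1 u.2).2
            refine mul_left_cancel (a := (u : G)) (mul_right_cancel (b := (u : G)⁻¹) (e.trans ?_))
            rw [hc, mul_inv_cancel_right]⟩
        one_smul := fun y => Subtype.ext (by show (1 : G) * y.1 * (1 : G)⁻¹ = y.1; group)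
        mul_smul := fun u w y => Subtype.ext (by
          show ((u : G) * w) * y.1 * ((u : G) * w)⁻¹ = u * ((w : G) * y.1 * (w : G)⁻¹) * (u : G)⁻¹
          group) }
    rw [← S.card_fix]
    refine Tsuzuku.card_dvd_of_free (U := ↥U) fun u y huy => ?_
    by_contra hu1
    have hu1' : (u : G) ≠ 1 := fun e => hu1 (Subtype.ext e)
    have e1 : (u : G) * y.1 * (u : G)⁻¹ = y.1 := congrArg Subtype.val huy
    have huQ := (Subgroup.mem_inf.1 u.2).1
    have hya : y.1 • a = a := by
      refine eq_a_of_fixed hS huQ hu1' ?_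
      rw [smul_smul, mul_inv_eq_iff_eq_mul.1 e1, mul_smul, show (u : G) • a = a from hS.le huQ]
    obtain ⟨hyR, -⟩ := hcent y.1 y.2.1
    have h27 : y.1 ^ 27 = 1 := by
      have := pow_card_eq_one' (x := (⟨y.1, hyR⟩ : R))
      rw [hR27] at this
      exact congrArg Subtype.val this
    exact y.2.2 (hvv y.1 y.2.1 (S.three_elt (hRM hyR) h27 hp3 S.v_D.1 hya))
  have hO1 : O.ncard = Nat.card {y : G // y ∈ O ∧ y ≠ v} + 1 := by
    have hvO : v ∈ O := MulAction.mem_orbit_self v
    rw [← Set.ncard_diff_singleton_add_one hvO]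
    congr 1
  have hle : O.ncard ≤ 25 := by
    have hsub : O ⊆ ((R : Set G) \ (Subgroup.zpowers v : Set G)) ∪ {v} := fun y hy => by
      by_cases hyv : y ∈ Subgroup.zpowers v
      · exact Or.inr (hvv y hy hyv)
      · exact Or.inl ⟨(hcent y hy).1, hyv⟩
    refine (Set.ncard_le_ncard hsub).trans ((Set.ncard_union_le _ _).trans ?_)
    have hz : (Subgroup.zpowers v : Set G) ⊆ (R : Set G) := Subgroup.zpowers_le.2 hvR
    rw [Set.ncard_singleton, Set.ncard_diff hz, show (R : Set G).ncard = 27 from hR27,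
      show (Subgroup.zpowers v : Set G).ncard = 3 from (Nat.card_zpowers v).trans (S.order.trans hp3)]
  have h81 : 81 ∣ Nat.card N := by
    haveI : Fact (Nat.Prime 3) := ⟨Nat.prime_three⟩
    have hR : IsPGroup 3 R := IsPGroup.of_card (n := 3) (by rw [hR27]; norm_num)
    obtain ⟨P, hP⟩ := hR.exists_le_sylow
    have hPc : Nat.card (P : Subgroup G) = 81 := by
      rw [P.card_eq_multiplicity, card_group hS, C.card_Q, C.card_D, S.card_E, hp3, ← S.gen,
        Nat.card_zpowers, S.order, hp3]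
      rw [show (2 ^ 3) ^ 3 * (3 * (2 ^ 3 - 1)) * ((2 ^ 3) ^ 3 + 1) = 3 ^ 4 * 68096 by norm_num,
        Nat.factorization_mul (by norm_num) (by norm_num), Finsupp.add_apply,
        Nat.Prime.factorization_pow Nat.prime_three,
        Nat.factorization_eq_zero_of_not_dvd (n := 68096) (p := 3) (by norm_num)]
      simp
    haveI : (R.subgroupOf (P : Subgroup G)).Normal := by
      refine Subgroup.normal_of_index_eq_minFac_card ?_
      rw [hPc, show Nat.minFac 81 = 3 by norm_num]
      have h1 := (R.subgroupOf (P : Subgroup G)).card_mul_index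
      rw [Nat.card_congr (Subgroup.subgroupOfEquivOfLe hP).toEquiv, hR27, hPc] at h1
      omega
    have hPN : (P : Subgroup G) ≤ N := Subgroup.le_normalizer_iff.2 fun x hx r hr =>
      (inferInstance : (R.subgroupOf (P : Subgroup G)).Normal).conj_mem ⟨r, hP hr⟩ hr ⟨x, hx⟩
    exact hPc ▸ Subgroup.card_dvd_of_le hPN
  have hG : Nat.card N ∣ 5515776 := by
    have h1 := Subgroup.card_subgroup_dvd_card N
    rw [card_group hS, C.card_Q, C.card_D, S.card_E, hp3, ← S.gen, Nat.card_zpowers, S.order,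
      hp3] at h1
    norm_num at h1
    exact h1
  rw [hNO] at h81 hG
  obtain ⟨m, hm⟩ := hdvd
  have h9 : O.ncard = 9 := by omega
  rw [h9] at hG
  norm_num at hG

end Small

end Cfsg.Agent.Involutions.RankOne.U3.WNeBot
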