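import Cfsg.Agent.Lib.Involutions.RankOne.U3.WNeBot.Base

/-!
# The centralizer of an element of `C_D(t)` on its fixed points

The construction of the set-up follows `Char.reduce`; here the extra hypotheses are carried along.
-/

set_option autoImplicit false
set_option linter.unusedSectionVars false
set_option linter.style.haveILetI false

universe u v

namespace Cfsg.Agent.Involutions.RankOne.U3.WNeBot

open MulAction Involutions.Basic

variable {G : Type u} {Ω : Type v} [Group G] [Finite G] [MulAction G Ω] [FaithfulSMul G Ω]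
  {a : Ω} {t : G} {Q : Subgroup G}

local notation "H" => MulAction.stabilizer G a
local notation "D" => (MulAction.stabilizer G a ⊓ MulAction.stabilizer G (t • a))
set_option quotPrecheck false in
local notation "V" => (D ⊓ Subgroup.centralizer ({t} : Set G))

namespace Ctx

variable (C : Ctx G Ω a t Q)
include C

/-- An element of `D` fixing `C_E(x)` pointwise is a power of `x`. -/
theorem mem_zpowers_of_cent {x m : G} (hx : x ∈ V) (hm : m ∈ D)
    (h : ∀ e ∈ C.E, e * x = x * e → m * e = e * m) : m ∈ Subgroup.zpowers x := by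
  obtain ⟨s, hs, -, hV⟩ := C.exists_s
  have hxD := (Subgroup.mem_inf.1 hx).1
  have hmV : m ∈ V := (hV m hm).2 (h s hs (((hV x hxD).1 hx)).symm)
  obtain ⟨w, hw⟩ := C.V_cyclic
  set S₀ := V ⊓ Subgroup.centralizer {e | e ∈ C.E ∧ e * x = x * e} with hS₀
  haveI : IsCyclic ↥V := by rw [← hw]; infer_instance
  have hcyc : IsCyclic ↥S₀ :=
    isCyclic_of_injective (Subgroup.inclusion (inf_le_left : S₀ ≤ V))
      (Subgroup.inclusion_injective inf_le_left)
  obtain ⟨z, hz⟩ := (Subgroup.isCyclic_iff_exists_zpowers_eq_top S₀).1 hcyc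
  have hxS : x ∈ S₀ := Subgroup.mem_inf.2 ⟨hx, Subgroup.mem_centralizer_iff.2 fun e he => he.2⟩
  have hmS : m ∈ S₀ := Subgroup.mem_inf.2
    ⟨hmV, Subgroup.mem_centralizer_iff.2 fun e he => (h e he.1 he.2).symm⟩
  have hzS : z ∈ S₀ := hz ▸ Subgroup.mem_zpowers z
  have hzV : z ∈ V := (Subgroup.mem_inf.1 hzS).1
  have heq : C.E ⊓ Subgroup.centralizer ({z} : Set G) = C.E ⊓ Subgroup.centralizer ({x} : Set G) := by
    ext e
    simp only [Subgroup.mem_inf, Subgroup.mem_centralizer_singleton_iff]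
    refine ⟨fun he => ⟨he.1, ?_⟩, fun he => ⟨he.1, ?_⟩⟩
    · obtain ⟨i, hi⟩ := (hz.symm ▸ hxS : x ∈ Subgroup.zpowers z)
      rw [← hi]
      exact ((show Commute e z from he.2).zpow_right i).eq
    · exact Subgroup.mem_centralizer_iff.1 (Subgroup.mem_inf.1 hzS).2 e he
  have hone : 1 < Nat.card ↥(C.E ⊓ Subgroup.centralizer ({x} : Set G)) := by
    rcases (Nat.one_le_iff_ne_zero.2 Nat.card_pos.ne' :
      1 ≤ Nat.card ↥(C.E ⊓ Subgroup.centralizer ({x} : Set G))).eq_or_lt with h1 | h1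
    · have := C.card_E_pow hx
      rw [← h1, one_pow] at this
      have := C.four_le
      omega
    · exact h1
  have hord : orderOf z = orderOf x := by
    refine Nat.pow_right_injective hone ?_
    show _ ^ orderOf z = _ ^ orderOf x
    rw [← C.card_E_pow hx]
    have := C.card_E_pow hzV
    rw [heq] at this
    exact this.symm
  have hle : Subgroup.zpowers x ≤ Subgroup.zpowers z := Subgroup.zpowers_le.2 (hz.symm ▸ hxS)
  rw [Subgroup.eq_of_le_of_card_ge hle (by rw [Nat.card_zpowers, Nat.card_zpowers, hord]), hz]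
  exact hmS

/-- The smaller set-up on the fixed points of `d`. -/
theorem reduce {d : G} (hd : d ∈ V) (hd1 : d ≠ 1)
    (h4 : 4 ≤ Nat.card ↥(C.E ⊓ Subgroup.centralizer ({d} : Set G))) :
    ∃ (G' : Type u) (_ : Group G') (_ : Finite G') (O' : Type v) (_ : MulAction G' O')
      (_ : FaithfulSMul G' O') (a' : O') (t' : G') (Q' : Subgroup G'),
      Ctx G' O' a' t' Q' ∧ Nat.card G' < Nat.card G := by
  classical
  have hS := C.hS
  have hdD : d ∈ D := (Subgroup.mem_inf.1 hd).1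
  have htd : t * d = d * t :=
    (Subgroup.mem_centralizer_singleton_iff.1 (Subgroup.mem_inf.1 hd).2).symm
  obtain ⟨s, hs, hs1, hV⟩ := C.exists_s
  have hsd : d * s = s * d := (hV d hdD).1 hd
  have hX : ({d} : Set G) ⊆ (D : Set G) := Set.singleton_subset_iff.2 hdD
  have h3 : ∃ b c e : Ω, b ≠ c ∧ b ≠ e ∧ c ≠ e ∧
      ∀ y ∈ ({d} : Set G), y • b = b ∧ y • c = c ∧ y • e = e := by
    have hsQ := C.E_le hs
    refine ⟨a, t • a, s • (t • a), (b_ne hS).symm, (smul_a_ne hS (hS.le hsQ) (b_ne hS)).symm,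
      fun e => b_ne hS (eq_a_of_fixed hS hsQ hs1 e.symm), ?_⟩
    rintro y (rfl : y = d)
    exact ⟨hdD.1, hdD.2, by rw [smul_smul, hsd, mul_smul, show y • (t • a) = t • a from hdD.2]⟩
  set M := Subgroup.centralizer ({d} : Set G) with hM
  let O' := {c : Ω // d • c = c}
  letI actM : MulAction M O' :=
    { smul := fun m c => ⟨(m : G) • c.1, by
        rw [smul_smul, ← Subgroup.mem_centralizer_singleton_iff.1 m.2, mul_smul, c.2]⟩
      one_smul := fun c => Subtype.ext (one_smul G c.1)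
      mul_smul := fun m m' c => Subtype.ext (mul_smul (m : G) (m' : G) c.1) }
  set φ := MulAction.toPermHom M O' with hφ
  let π := QuotientGroup.mk' φ.ker
  letI actQ : MulAction (M ⧸ φ.ker) O' := MulAction.compHom O' (QuotientGroup.kerLift φ)
  have hsm : ∀ (m : M) (c : O'), (π m • c : O') = m • c := fun m c => rfl
  haveI : FaithfulSMul (M ⧸ φ.ker) O' :=
    ⟨fun {x y} h => QuotientGroup.kerLift_injective φ (Equiv.ext fun c => h c)⟩
  let a' : O' := ⟨a, hdD.1⟩
  let tM : M := ⟨t, Subgroup.mem_centralizer_singleton_iff.2 htd⟩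
  let Q' : Subgroup (M ⧸ φ.ker) := (Q.subgroupOf M).map π
  have hinjQ : ∀ x : M, (x : G) ∈ Q → π x = 1 → x = 1 := fun x hx h => by
    refine Subtype.ext (inf_D hS hx ⟨hS.le hx, ?_⟩)
    have := congrArg (fun z : M ⧸ φ.ker => (z • (π tM • a') : O')) h
    simp only [one_smul, hsm] at this
    exact congrArg Subtype.val this
  have hstab : ∀ z : M ⧸ φ.ker, z • a' = a' → ∃ m : M, (m : G) ∈ H ∧ π m = z := by
    intro z hz
    obtain ⟨m, rfl⟩ := QuotientGroup.mk_surjective z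
    exact ⟨m, congrArg Subtype.val hz, rfl⟩
  have hcardQ : Nat.card Q' = Nat.card ↥(Q ⊓ M) := by
    refine (Nat.card_eq_of_bijective (fun x : ↥(Q ⊓ M) =>
      (⟨π ⟨x, (Subgroup.mem_inf.1 x.2).2⟩, ⟨_, (Subgroup.mem_inf.1 x.2).1, rfl⟩⟩ : ↥Q')) ⟨?_, ?_⟩).symm
    · intro x y e
      have e1 : π ⟨x, (Subgroup.mem_inf.1 x.2).2⟩ = π ⟨y, (Subgroup.mem_inf.1 y.2).2⟩ :=
        congrArg Subtype.val e
      have e2 := hinjQ ((⟨y, (Subgroup.mem_inf.1 y.2).2⟩ : M)⁻¹ * ⟨x, (Subgroup.mem_inf.1 x.2).2⟩)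
        (mul_mem (inv_mem (Subgroup.mem_inf.1 y.2).1) (Subgroup.mem_inf.1 x.2).1)
        (by rw [map_mul, map_inv, e1, inv_mul_cancel])
      exact Subtype.ext (congrArg Subtype.val (inv_mul_eq_one.1 e2)).symm
    · rintro ⟨_, x, hx, rfl⟩
      exact ⟨⟨x, Subgroup.mem_inf.2 ⟨hx, x.2⟩⟩, rfl⟩
  have hS' : Cfsg.IsRankOneSetup (M ⧸ φ.ker) O' a' (π tM) Q' := by
    refine
      { two_transitive := MulAction.is_two_pretransitive_iff.2 fun {b₁ b₂ c₁ c₂} hb hc => ?_
        mul_self := by rw [← map_mul, show tM * tM = 1 from Subtype.ext hS.mul_self, map_one]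
        ne_one := fun h => b_ne hS ?_
        not_mem := fun h => hS.not_mem (congrArg Subtype.val h)
        le := ?_
        conj_mem := ?_
        inf_eq_bot := ?_
        sup_eq := ?_
        even_card := ?_
        odd_card := ?_ }
    · obtain ⟨g, hg, h1, h2⟩ := cent_two_transitive hS h3 (b₁ := (b₁ : Ω)) (b₂ := b₂) (c₁ := c₁) (c₂ := c₂)
        (by rintro x rfl; exact b₁.2) (by rintro x rfl; exact b₂.2) (by rintro x rfl; exact c₁.2)
        (by rintro x rfl; exact c₂.2) (fun e => hb (Subtype.ext e)) (fun e => hc (Subtype.ext e))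
      exact ⟨π ⟨g, hg⟩, Subtype.ext h1, Subtype.ext h2⟩
    · have := congrArg (fun z : M ⧸ φ.ker => (z • a' : O').1) h
      simp only [hsm, one_smul] at this
      exact this
    · rintro _ ⟨x, hx, rfl⟩
      exact Subtype.ext (hS.le hx)
    · intro z hz x hx
      obtain ⟨m, hm, rfl⟩ := hstab z hz
      obtain ⟨x, hx, rfl⟩ := hx
      exact ⟨m * x * m⁻¹, hS.conj_mem m hm x hx, by simp⟩
    · rw [Subgroup.eq_bot_iff_forall]
      rintro _ ⟨⟨x, hx, rfl⟩, hfix⟩
      have hxb : (x : G) • (t • a) = t • a := congrArg Subtype.val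
        (show π x • (π tM • a') = π tM • a' from hfix)
      rw [show x = 1 from Subtype.ext (inf_D hS hx ⟨hS.le hx, hxb⟩), map_one]
    · refine le_antisymm (sup_le ?_ inf_le_left) fun z hz => ?_
      · rintro _ ⟨x, hx, rfl⟩
        exact Subtype.ext (hS.le hx)
      obtain ⟨m, hm, rfl⟩ := hstab z hz
      have hmem : (m : G) ∈ Subgroup.centralizer ({d} : Set G) ⊓ H := ⟨m.2, hm⟩
      have hnorm : Subgroup.centralizer ({d} : Set G) ⊓ D ≤
          Subgroup.normalizer ((Subgroup.centralizer ({d} : Set G) ⊓ Q : Subgroup G) : Set G) :=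
        Subgroup.le_normalizer_iff.2 fun y hy x hx => Subgroup.mem_inf.2
          ⟨mul_mem (mul_mem hy.1 hx.1) (inv_mem hy.1), hS.conj_mem y hy.2.1 x hx.2⟩
      rw [← cent_decomp hS hX, ← SetLike.mem_coe,
        Subgroup.coe_mul_of_right_le_normalizer_left _ _ hnorm] at hmem
      obtain ⟨x, hx, y, hy, hxy⟩ := hmem
      rw [show m = (⟨x, hx.1⟩ : M) * ⟨y, hy.1⟩ from Subtype.ext hxy.symm, map_mul]
      exact Subgroup.mul_mem_sup ⟨⟨x, hx.1⟩, hx.2, rfl⟩
        ⟨Subtype.ext hy.2.1, show π ⟨y, hy.1⟩ • (π tM • a') = π tM • a' from Subtype.ext hy.2.2⟩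
    · rw [hcardQ, C.card_cent_Q hd]
      have := C.hS.even_card
      rw [C.card_Q, C.card_E_pow hd, ← pow_mul, mul_comm, pow_mul] at this
      exact (Nat.even_pow.1 this).1
    · let f : ↥(M ⊓ D) →* ↥(MulAction.stabilizer (M ⧸ φ.ker) a' ⊓
          MulAction.stabilizer (M ⧸ φ.ker) (π tM • a')) :=
        { toFun := fun y => ⟨π ⟨y, (Subgroup.mem_inf.1 y.2).1⟩,
            ⟨Subtype.ext (Subgroup.mem_inf.1 y.2).2.1,
            show π ⟨y, (Subgroup.mem_inf.1 y.2).1⟩ • (π tM • a') = π tM • a' from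
              Subtype.ext (Subgroup.mem_inf.1 y.2).2.2⟩⟩
          map_one' := Subtype.ext (map_one π)
          map_mul' := fun x y => Subtype.ext (map_mul π (⟨(x : G), (Subgroup.mem_inf.1 x.2).1⟩ : M)
            ⟨(y : G), (Subgroup.mem_inf.1 y.2).1⟩) }
      have hsurj : Function.Surjective f := by
        rintro ⟨z, hz⟩
        obtain ⟨m, hm, rfl⟩ := hstab z hz.1
        exact ⟨⟨m, Subgroup.mem_inf.2 ⟨m.2, hm, congrArg Subtype.val hz.2⟩⟩, rfl⟩
      exact hS.odd_card.of_dvd_nat ((Subgroup.card_dvd_of_surjective f hsurj).trans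
        (Subgroup.card_dvd_of_le inf_le_right))
  -- the involutions of the new point stabilizer
  have hinvol : ∀ z ∈ Cfsg.involutionsIn (MulAction.stabilizer (M ⧸ φ.ker) a' : Set (M ⧸ φ.ker)),
      ∃ x : M, (x : G) ∈ C.E ∧ (x : G) ≠ 1 ∧ π x = z := by
    intro z hz
    obtain ⟨x, hx, rfl⟩ := involution_mem hS' hz.1 hz.2.2
    have hxx : x * x = 1 := hinjQ _ (mul_mem hx hx) ((map_mul π x x).trans hz.2.2)
    refine ⟨x, C.mem_E.2 ⟨hS.le hx, congrArg Subtype.val hxx⟩, fun e => hz.2.1 ?_, rfl⟩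
    rw [show x = 1 from Subtype.ext e, map_one]
  have hsucc : ∀ x : M, (x : G) ∈ C.E → (x : G) ≠ 1 →
      π x ∈ Cfsg.involutionsIn (MulAction.stabilizer (M ⧸ φ.ker) a' : Set (M ⧸ φ.ker)) := by
    intro x hx hx1
    refine ⟨Subtype.ext (C.mem_E.1 hx).1, fun e => hx1 ?_, ?_⟩
    · exact congrArg Subtype.val (hinjQ x (C.E_le hx) e)
    · rw [← map_mul, show x * x = 1 from Subtype.ext (C.E_sq hx), map_one]
  have hcardI : Nat.card (Cfsg.involutionsIn
      (MulAction.stabilizer (M ⧸ φ.ker) a' : Set (M ⧸ φ.ker))) + 1 = Nat.card ↥(C.E ⊓ M) := by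
    rw [← Finite.card_option]
    let F : ↥(C.E ⊓ M) → Option (Cfsg.involutionsIn
        (MulAction.stabilizer (M ⧸ φ.ker) a' : Set (M ⧸ φ.ker))) := fun x =>
      if h : (x : G) = 1 then none
      else some ⟨_, hsucc ⟨x, (Subgroup.mem_inf.1 x.2).2⟩ (Subgroup.mem_inf.1 x.2).1 h⟩
    refine (Nat.card_eq_of_bijective F ⟨?_, ?_⟩).symm
    · intro x y e
      by_cases hx : (x : G) = 1 <;> by_cases hy : (y : G) = 1 <;>
        simp only [F, hx, hy, dite_true, dite_false, reduceCtorEq, Option.some.injEq,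
          Subtype.mk.injEq] at e
      · exact Subtype.ext (hx.trans hy.symm)
      · have e2 := hinjQ ((⟨y, (Subgroup.mem_inf.1 y.2).2⟩ : M)⁻¹ * ⟨x, (Subgroup.mem_inf.1 x.2).2⟩)
          (mul_mem (inv_mem (C.E_le (Subgroup.mem_inf.1 y.2).1)) (C.E_le (Subgroup.mem_inf.1 x.2).1))
          (by rw [map_mul, map_inv, e, inv_mul_cancel])
        exact Subtype.ext (congrArg Subtype.val (inv_mul_eq_one.1 e2)).symm
    · rintro (_ | ⟨z, hz⟩)
      · exact ⟨1, by simp [F]⟩
      · obtain ⟨x, hxE, hx1, rfl⟩ := hinvol z hz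
        exact ⟨⟨x, Subgroup.mem_inf.2 ⟨hxE, x.2⟩⟩, by simp [F, hx1]⟩
  refine ⟨M ⧸ φ.ker, inferInstance, inferInstance, O', actQ, inferInstance, a', π tM, Q',
    { hS := hS', h2 := ?_, exp := ?_, card := ?_, faith := ?_ }, ?_⟩
  · obtain ⟨x, hx, y, hy, hx1, hy1, hne⟩ : ∃ x ∈ C.E ⊓ M, ∃ y ∈ C.E ⊓ M, x ≠ 1 ∧ y ≠ 1 ∧ x ≠ y := by
      by_contra hno
      push Not at hno
      have : Nat.card ↥(C.E ⊓ M) ≤ 2 := by
        refine le_trans (Nat.card_le_card_of_injective
          (fun x : ↥(C.E ⊓ M) => decide ((x : G) = 1)) fun x y e => ?_) (by simp)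
        by_cases hx : (x : G) = 1 <;> by_cases hy : (y : G) = 1 <;> simp [hx, hy] at e
        · exact Subtype.ext (hx.trans hy.symm)
        · exact Subtype.ext (hno x x.2 y y.2 hx hy)
      omega
    have hxy : (⟨x, (Subgroup.mem_inf.1 hx).2⟩ : M) * ⟨y, (Subgroup.mem_inf.1 hy).2⟩ =
        (⟨y, (Subgroup.mem_inf.1 hy).2⟩ : M) * ⟨x, (Subgroup.mem_inf.1 hx).2⟩ :=
      Subtype.ext (C.E_comm (Subgroup.mem_inf.1 hx).1 (C.E_le (Subgroup.mem_inf.1 hy).1))
    obtain ⟨-, a1, a2⟩ := hsucc ⟨x, (Subgroup.mem_inf.1 hx).2⟩ (Subgroup.mem_inf.1 hx).1 hx1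
    obtain ⟨-, b1, b2⟩ := hsucc ⟨y, (Subgroup.mem_inf.1 hy).2⟩ (Subgroup.mem_inf.1 hy).1 hy1
    refine ⟨_, _, a1, b1, fun e => hne ?_, a2, b2, by rw [← map_mul, hxy, map_mul]⟩
    have e2 := hinjQ ((⟨y, (Subgroup.mem_inf.1 hy).2⟩ : M)⁻¹ * ⟨x, (Subgroup.mem_inf.1 hx).2⟩)
      (mul_mem (inv_mem (C.E_le (Subgroup.mem_inf.1 hy).1)) (C.E_le (Subgroup.mem_inf.1 hx).1))
      (by rw [map_mul, map_inv, e, inv_mul_cancel])
    exact (congrArg Subtype.val (inv_mul_eq_one.1 e2)).symm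
  · rintro _ ⟨x, hx, rfl⟩
    rw [← map_pow, show x ^ 4 = 1 from Subtype.ext (C.exp x hx), map_one]
  · rw [hcardQ, hcardI]
    exact C.card_cent_Q hd
  · rw [Subgroup.eq_bot_iff_forall]
    rintro z ⟨hzD, hzC⟩
    obtain ⟨m, hm, rfl⟩ := hstab z hzD.1
    have hmD : (m : G) ∈ D := ⟨hm, congrArg Subtype.val hzD.2⟩
    have hmd := C.mem_zpowers_of_cent hd hmD fun e he hed => by
      by_cases he1 : e = 1
      · simp [he1]
      let e' : M := ⟨e, Subgroup.mem_centralizer_singleton_iff.2 hed⟩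
      have h1 : π e' * π m = π m * π e' := Subgroup.mem_centralizer_iff.1 hzC _ (hsucc e' he he1)
      have h2 := hinjQ (m * e' * m⁻¹ * e'⁻¹)
        (mul_mem (hS.conj_mem m hm e (C.E_le he)) (inv_mem (C.E_le he)))
        (by rw [map_mul, map_mul, map_mul, map_inv, map_inv, ← h1]; group)
      have h3 : (m : G) * e * (m : G)⁻¹ * e⁻¹ = 1 := congrArg Subtype.val h2
      exact mul_inv_eq_iff_eq_mul.1 (mul_inv_eq_one.1 h3)
    refine (QuotientGroup.eq_one_iff m).2 (MonoidHom.mem_ker.2 (Equiv.ext fun c => Subtype.ext ?_))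
    show (m : G) • (c : Ω) = c
    obtain ⟨i, hi⟩ := hmd
    have hfix : d ∈ MulAction.stabilizer G (c : Ω) := c.2
    exact hi ▸ zpow_mem hfix i
  · have hker : (⟨d, Subgroup.mem_centralizer_singleton_iff.2 rfl⟩ : M) ∈ φ.ker :=
      MonoidHom.mem_ker.2 (Equiv.ext fun c => Subtype.ext c.2)
    have h1 : 1 < Nat.card φ.ker := by
      rw [Finite.one_lt_card_iff_nontrivial]
      exact ⟨⟨_, hker⟩, 1, fun e => hd1 (congrArg (fun z : φ.ker => ((z : M) : G)) e)⟩
    calc Nat.card (M ⧸ φ.ker) < Nat.card (M ⧸ φ.ker) * Nat.card φ.ker := lt_mul_of_one_lt_right Nat.card_pos h1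
      _ = Nat.card M := (Subgroup.card_eq_card_quotient_mul_card_subgroup φ.ker).symm
      _ ≤ Nat.card G := Subgroup.card_le_card_group M

end Ctx

end Cfsg.Agent.Involutions.RankOne.U3.WNeBot
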