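import Cfsg.Agent.Lib.Involutions.RankOne.U3.WNeBot.Base

/-!
# The set-up inside a subgroup containing `Q` and `t`
-/

set_option autoImplicit false
set_option linter.unusedSectionVars false
set_option linter.style.haveILetI false

namespace Cfsg.Agent.Involutions.RankOne.U3.WNeBot

open MulAction Involutions.Basic

variable {G Ω : Type*} [Group G] [Finite G] [MulAction G Ω] [FaithfulSMul G Ω]
  {a : Ω} {t : G} {Q : Subgroup G}

local notation "H" => MulAction.stabilizer G a
local notation "D" => (MulAction.stabilizer G a ⊓ MulAction.stabilizer G (t • a))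

namespace Ctx

variable (C : Ctx G Ω a t Q)
include C

/-- A subgroup containing `Q` and `t` inherits the hypotheses. -/
theorem restrict (N : Subgroup G) (hQ : Q ≤ N) (ht : t ∈ N) :
    Ctx N Ω a (⟨t, ht⟩ : N) (Q.subgroupOf N) := by
  have hS := C.hS
  have hreach : ∀ c : Ω, ∃ g : N, g • a = c := by
    intro c
    by_cases hc : c = a
    · exact ⟨1, by rw [one_smul, hc]⟩
    · obtain ⟨q, hq, hqc⟩ := exists_q hS hc
      exact ⟨⟨q * t, mul_mem (hQ hq) ht⟩, show (q * t) • a = c by rw [mul_smul, hqc]⟩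
  have hpair : ∀ x y : Ω, x ≠ y → ∃ g : N, g • a = x ∧ g • (t • a) = y := by
    intro x y hxy
    obtain ⟨g, hg⟩ := hreach x
    have hy : (g : G)⁻¹ • y ≠ a := fun e => hxy (by
      rw [← hg]
      exact (inv_smul_eq_iff.1 e).symm)
    obtain ⟨q, hq, hqy⟩ := exists_q hS hy
    refine ⟨g * ⟨q, hQ hq⟩, ?_, ?_⟩
    · show ((g : G) * q) • a = x
      rw [mul_smul, show q • a = a from hS.le hq]
      exact hg
    · show ((g : G) * q) • (t • a) = y
      rw [mul_smul, hqy, smul_inv_smul]
  let inv_map : ∀ x : N, x ∈ MulAction.stabilizer N a → (x : G) ∈ H := fun x hx => hx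
  refine { hS := ?_, h2 := ?_, exp := ?_, card := ?_, faith := ?_ }
  · refine
      { two_transitive := MulAction.is_two_pretransitive_iff.2 fun {x y x' y'} h h' => ?_
        mul_self := Subtype.ext hS.mul_self
        ne_one := fun e => hS.ne_one (congrArg Subtype.val e)
        not_mem := fun e => hS.not_mem e
        le := fun x hx => hS.le hx
        conj_mem := fun h hh x hx => hS.conj_mem h hh x hx
        inf_eq_bot := ?_
        sup_eq := ?_
        even_card := ?_
        odd_card := ?_ }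
    · obtain ⟨g, hg1, hg2⟩ := hpair x y h
      obtain ⟨g', hg1', hg2'⟩ := hpair x' y' h'
      exact ⟨g' * g⁻¹, by rw [mul_smul, inv_smul_eq_iff.2 hg1.symm, hg1'],
        by rw [mul_smul, inv_smul_eq_iff.2 hg2.symm, hg2']⟩
    · rw [Subgroup.eq_bot_iff_forall]
      rintro x ⟨hx, hx'⟩
      exact Subtype.ext (inf_D hS hx ⟨hS.le hx, hx'⟩)
    · refine le_antisymm (sup_le (fun x hx => hS.le hx) inf_le_left) fun x hx => ?_
      obtain ⟨q, hq, d, hd, hqd⟩ := exists_decomp hS (inv_map x hx)
      have hdN : d ∈ N := by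
        have h1 : q⁻¹ * (x : G) = d := by rw [hqd, inv_mul_cancel_left]
        exact h1 ▸ mul_mem (inv_mem (hQ hq)) x.2
      rw [show x = (⟨q, hQ hq⟩ : N) * ⟨d, hdN⟩ from Subtype.ext hqd]
      exact Subgroup.mul_mem_sup hq ⟨hd.1, hd.2⟩
    · rw [Nat.card_congr (Subgroup.subgroupOfEquivOfLe hQ).toEquiv]
      exact hS.even_card
    · let f : ↥(MulAction.stabilizer N a ⊓ MulAction.stabilizer N ((⟨t, ht⟩ : N) • a)) →* ↥D :=
        { toFun := fun x => (⟨(x.1 : G), ⟨x.2.1, x.2.2⟩⟩ : ↥D)
          map_one' := rfl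
          map_mul' := fun _ _ => rfl }
      refine hS.odd_card.of_dvd_nat (Subgroup.card_dvd_of_injective f fun x y e => ?_)
      exact Subtype.ext (Subtype.ext (congrArg Subtype.val e :))
  · obtain ⟨s, hs, s', hs', hne⟩ := exists_two hS C.h2
    have hsQ := involution_mem hS hs.1 hs.2.2
    have hsQ' := involution_mem hS hs'.1 hs'.2.2
    exact ⟨⟨s, hQ hsQ⟩, ⟨s', hQ hsQ'⟩, fun e => hs.2.1 (congrArg Subtype.val e),
      fun e => hs'.2.1 (congrArg Subtype.val e), fun e => hne (congrArg Subtype.val e),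
      Subtype.ext hs.2.2, Subtype.ext hs'.2.2,
      Subtype.ext (involution_central hS C.h2 hs hsQ')⟩
  · exact fun x hx => Subtype.ext (C.exp x hx)
  · have e : Nat.card (Cfsg.involutionsIn (MulAction.stabilizer N a : Set N)) =
        Nat.card (Cfsg.involutionsIn (H : Set G)) := Nat.card_congr
      { toFun := fun x => ⟨(x.1 : G), x.2.1, fun e => x.2.2.1 (Subtype.ext e),
          congrArg Subtype.val x.2.2.2⟩
        invFun := fun x => ⟨⟨x.1, hQ (involution_mem hS x.2.1 x.2.2.2)⟩, x.2.1,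
          fun e => x.2.2.1 (congrArg Subtype.val e), Subtype.ext x.2.2.2⟩
        left_inv := fun _ => rfl
        right_inv := fun _ => rfl }
    rw [e, Nat.card_congr (Subgroup.subgroupOfEquivOfLe hQ).toEquiv]
    exact C.card
  · rw [Subgroup.eq_bot_iff_forall]
    rintro x ⟨hxD, hxC⟩
    refine Subtype.ext (Subgroup.mem_bot.1 (C.faith ▸ Subgroup.mem_inf.2 ⟨⟨hxD.1, hxD.2⟩, ?_⟩))
    rw [Subgroup.mem_centralizer_iff]
    intro z hz
    exact congrArg Subtype.val (Subgroup.mem_centralizer_iff.1 hxC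
      (⟨z, hQ (involution_mem hS hz.1 hz.2.2)⟩ : N)
      ⟨hz.1, fun e => hz.2.1 (congrArg Subtype.val e), Subtype.ext hz.2.2⟩)

end Ctx

end Cfsg.Agent.Involutions.RankOne.U3.WNeBot
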