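import Cfsg.Agent.Lib.Involutions.RankOne.U3.WNeBot.Base
import Cfsg.Agent.Lib.Involutions.RankOne.Core
import Cfsg.Agent.S1147

/-!
# Normal subgroups, and the case `C_D(t) = 1`
-/

set_option autoImplicit false
set_option linter.unusedSectionVars false
set_option linter.style.haveILetI false

namespace Cfsg.Agent.Involutions.RankOne.U3.WNeBot

open MulAction Involutions.Basic

variable {G Ω : Type*} [Group G] [Finite G] [MulAction G Ω] [FaithfulSMul G Ω]
  {a : Ω} {t : G} {Q : Subgroup G}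

local notation "H" => MulAction.stabilizer G a
local notation "D" => (MulAction.stabilizer G a ⊓ MulAction.stabilizer G (t • a))
set_option quotPrecheck false in
local notation "V" => (D ⊓ Subgroup.centralizer ({t} : Set G))

namespace Ctx

variable (C : Ctx G Ω a t Q)
include C

theorem normalCore_eq_bot : (H).normalCore = ⊥ := by
  rw [Subgroup.eq_bot_iff_forall]
  intro x hx
  refine eq_of_smul_eq_smul (α := Ω) fun c => ?_
  rw [one_smul]
  obtain ⟨g, rfl⟩ := exists_smul_a C.hS c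
  have h1 : (g⁻¹ * x * g⁻¹⁻¹) • a = a := hx g⁻¹
  rw [inv_inv, mul_smul, mul_smul, inv_smul_eq_iff] at h1
  exact h1

/-- A non-trivial normal subgroup contains `Q`, `t` and the inverted set. -/
theorem normal_contains (N : Subgroup G) [N.Normal] (hN : N ≠ ⊥) :
    Q ≤ N ∧ t ∈ N ∧ ∀ k ∈ Cfsg.invertedBy D t, k ∈ N := by
  haveI : Fact (Nat.Prime 2) := ⟨Nat.prime_two⟩
  have heven : 2 ∣ Nat.card N := by
    by_contra hodd
    refine hN (le_bot_iff.1 ?_)
    obtain ⟨x, y, hx, hy, hne, hx2, hy2, hxy⟩ := C.h2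
    have hc := core_eq C.hS (orderOf_two_iff.2 ⟨hx2, hx⟩) (orderOf_two_iff.2 ⟨hy2, hy⟩) hne hxy
    rw [← C.normalCore_eq_bot, ← hc]
    exact Cores.le_pPrimeCore (Nat.coprime_two_right.2 (Nat.odd_iff.2 (Nat.two_dvd_ne_zero.1 hodd)))
  obtain ⟨i, hi⟩ := exists_prime_orderOf_dvd_card' 2 heven
  have hi' : orderOf (i : G) = 2 := by rw [Subgroup.orderOf_coe]; exact hi
  have hall : ∀ x : G, x * x = 1 → x ∈ N := by
    intro x hx2
    by_cases hx : x = 1
    · exact hx ▸ one_mem N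
    obtain ⟨g, hg⟩ := isConj_iff.1
      (StronglyEmbedded.isConj_involutions (stronglyEmbedded C.hS) hi' (orderOf_two_iff.2 ⟨hx2, hx⟩))
    exact hg ▸ Subgroup.Normal.conj_mem inferInstance _ i.2 g
  have ht : t ∈ N := hall t C.hS.mul_self
  have hK : ∀ k ∈ Cfsg.invertedBy D t, k ∈ N := by
    intro k hk
    have h1 : t * (t * k) = k := by rw [← mul_assoc, C.hS.mul_self, one_mul]
    rw [← h1]
    exact mul_mem ht (hall _ (swap_of_K C.hS hk).1)
  refine ⟨fun q hq => ?_, ht, hK⟩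
  obtain ⟨k, hk, hk1⟩ := exists_K_ne_one C.hS C.h2
  let ψ : Q → ↥(N ⊓ Q) := fun x => ⟨(x : G) * k * (x : G)⁻¹ * k⁻¹, Subgroup.mem_inf.2
    ⟨mul_mem (Subgroup.Normal.conj_mem inferInstance _ (hK k hk) _) (inv_mem (hK k hk)), by
      rw [show (x : G) * k * (x : G)⁻¹ * k⁻¹ = x * (k * (x : G)⁻¹ * k⁻¹) by group]
      exact mul_mem x.2 (C.hS.conj_mem k hk.1.1 _ (inv_mem x.2))⟩⟩
  have hψ : Function.Injective ψ := by
    intro x y e
    have e1 : (x : G) * k * (x : G)⁻¹ * k⁻¹ = (y : G) * k * (y : G)⁻¹ * k⁻¹ := congrArg Subtype.val e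
    have e2 : (x : G) * k * (x : G)⁻¹ = (y : G) * k * (y : G)⁻¹ := mul_right_cancel e1
    refine Subtype.ext (inv_mul_eq_one.1 (C.K_free hk hk1 (mul_mem (inv_mem y.2) x.2) ?_)).symm
    calc k * ((y : G)⁻¹ * x) * k⁻¹
        = (y : G)⁻¹ * ((y : G) * k * (y : G)⁻¹) * x * k⁻¹ := by group
      _ = (y : G)⁻¹ * ((x : G) * k * (x : G)⁻¹) * x * k⁻¹ := by rw [e2]
      _ = (y : G)⁻¹ * x := by group
  have h1 := Nat.card_le_card_of_injective ψ hψ
  have h2 := Subgroup.eq_of_le_of_card_ge (show N ⊓ Q ≤ Q from inf_le_right) h1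
  exact (h2.ge hq).1

/-- The case where only the identity of `D` commutes with `t`. -/
theorem false_of_V_bot (hV : V = ⊥) : False := by
  have hD : ∀ d ∈ D, d ∈ Cfsg.invertedBy D t := by
    intro d hd
    obtain ⟨c, k, hc, hct, hk, rfl⟩ :=
      InvertedSet.exists_decomp C.hS.odd_card C.hS.mul_self (fun x hx => t_conj_mem_D C.hS hx) hd
    have hc1 : c = 1 := Subgroup.mem_bot.1
      (hV ▸ Subgroup.mem_inf.2 ⟨hc, InvertedSet.mem_cent.2 hct⟩)
    rwa [hc1, one_mul]
  haveI := finite_points C.hS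
  have hfree : ∀ d ∈ D, d ≠ 1 → ∀ c : Ω, c ≠ a → d • c = c → c = t • a := by
    intro d hd hd1 c hc hdc
    obtain ⟨q, hq, rfl⟩ := exists_q C.hS hc
    have h1 : q = 1 := C.K_free (hD d hd) hd1 hq (by
      refine q_unique C.hS (C.hS.conj_mem d hd.1 q hq) hq (b_ne C.hS) ?_
      conv_rhs => rw [← hdc]
      rw [mul_smul, mul_smul, show d⁻¹ • (t • a) = t • a from inv_smul_eq_iff.2 hd.2.symm])
    rw [h1, one_smul]
  have hsimple : IsSimpleGroup G := by
    haveI : Nontrivial G := ⟨⟨t, 1, C.hS.ne_one⟩⟩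
    refine ⟨fun N hN => (eq_or_ne N ⊥).imp_right fun hne => ?_⟩
    obtain ⟨hQ, ht, hK⟩ := C.normal_contains N hne
    refine (Subgroup.eq_top_iff' N).2 fun g => ?_
    obtain ⟨g', hg', he⟩ : ∃ g' ∈ N, g' • a = g • a := by
      by_cases hc : g • a = a
      · exact ⟨1, one_mem N, by rw [one_smul, hc]⟩
      · obtain ⟨q, hq, hqc⟩ := exists_q C.hS hc
        exact ⟨q * t, mul_mem (hQ hq) ht, by rw [mul_smul, hqc]⟩
    obtain ⟨q, hq, d, hd, hqd⟩ := exists_decomp C.hS
      (show g'⁻¹ * g ∈ H by show (g'⁻¹ * g) • a = a; rw [mul_smul, ← he, inv_smul_smul])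
    rw [← mul_inv_cancel_left g' g, hqd]
    exact mul_mem hg' (mul_mem (hQ hq) (hK d (hD d hd)))
  have hZ : Cfsg.IsZassenhausGroup G Ω := by
    refine ⟨inferInstance, C.hS.two_transitive, fun g x y z hxy hyz hxz hgx hgy hgz => ?_, ?_, ?_⟩
    · obtain ⟨u, hu1, hu2⟩ := exists_move C.hS hxy (x' := a) (y' := t • a) (b_ne C.hS).symm
      by_contra hg
      refine hyz (smul_left_cancel u ?_)
      rw [hu2]
      refine (hfree (u * g * u⁻¹) ⟨?_, ?_⟩ (fun e => hg (conj_eq_one_iff.1 e)) _ ?_ ?_).symm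
      · show (u * g * u⁻¹) • a = a
        rw [← hu1, mul_smul, mul_smul, inv_smul_smul, hgx]
      · show (u * g * u⁻¹) • (t • a) = t • a
        rw [← hu2, mul_smul, mul_smul, inv_smul_smul, hgy]
      · exact fun e => hxz (smul_left_cancel u (hu1.trans e.symm))
      · rw [mul_smul, mul_smul, inv_smul_smul, hgz]
    · obtain ⟨k, hk, hk1⟩ := exists_K_ne_one C.hS C.h2
      exact ⟨k, hk1, a, t • a, (b_ne C.hS).symm, hk.1.1, hk.1.2⟩
    · intro N hN _
      obtain ⟨q, hq, hq1⟩ := exists_ne_one C.hS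
      refine ⟨a, fun e => ?_⟩
      haveI := hN
      rcases eq_or_ne N ⊥ with rfl | hne
      · have h1 : IsPretransitive (⊥ : Subgroup G) Ω := ‹_›
        obtain ⟨g, hg⟩ := h1.exists_smul_eq a (t • a)
        have : (g : G) = 1 := Subgroup.mem_bot.1 g.2
        refine b_ne C.hS ?_
        rw [← hg]
        show (g : G) • a = a
        rw [this, one_smul]
      · obtain ⟨hQ, -, -⟩ := C.normal_contains N hne
        have hmem : (⟨q, hQ hq⟩ : N) ∈ stabilizer N a := C.hS.le hq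
        rw [e, Subgroup.mem_bot] at hmem
        exact hq1 (congrArg Subtype.val hmem)
  have hUna : ∃ x ∈ Q, ∃ y ∈ Q, x * y ≠ y * x := by
    by_contra hab
    push Not at hab
    let sqHom : Q →* C.E :=
      { toFun := fun x => ⟨(x : G) * x, C.mem_E.2 ⟨C.hS.le (mul_mem x.2 x.2), by
          rw [show (x : G) * x * (x * x) = (x : G) ^ 4 by simp only [pow_succ, pow_zero, one_mul, mul_assoc]]
          exact C.exp x x.2⟩⟩
        map_one' := Subtype.ext (one_mul 1)
        map_mul' := fun x y => Subtype.ext (by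
          show (x : G) * y * (x * y) = (x : G) * x * ((y : G) * y)
          calc (x : G) * y * (x * y) = (x : G) * ((y : G) * x) * y := by group
            _ = (x : G) * ((x : G) * y) * y := by rw [hab y y.2 x x.2]
            _ = _ := by group) }
    have hker : Nat.card sqHom.ker ≤ Nat.card C.E := by
      refine Nat.card_le_card_of_injective (fun x => (⟨(x.1 : G), C.mem_E.2 ⟨C.hS.le x.1.2,
        congrArg Subtype.val x.2⟩⟩ : C.E)) fun x y e => ?_
      exact Subtype.ext (Subtype.ext (congrArg Subtype.val e :))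
    have hr : Nat.card sqHom.range ≤ Nat.card C.E := Subgroup.card_le_card_group _
    have h1 := sqHom.ker.card_mul_index
    rw [Subgroup.index_ker, C.card_Q] at h1
    have h4 := C.four_le
    have h5 : Nat.card C.E * Nat.card C.E < Nat.card C.E ^ 3 := by
      rw [pow_succ, sq]
      exact lt_mul_of_one_lt_right (by positivity) (by omega)
    exact absurd (h1 ▸ Nat.mul_le_mul hker hr) (not_le.2 h5)
  have hp : IsPGroup 2 Q := fun x => ⟨2, Subtype.ext (C.exp x x.2)⟩
  obtain ⟨n', hn', -, hΩ, -, hDn, -⟩ := Cfsg.Agent.S1147.result hZ (b_ne C.hS).symm Q C.hS.le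
    C.hS.conj_mem (fun c d hc hd => by
      obtain ⟨q, hq, rfl⟩ := exists_q C.hS hc
      obtain ⟨q', hq', rfl⟩ := exists_q C.hS hd
      refine ⟨⟨q' * q⁻¹, mul_mem hq' (inv_mem hq)⟩,
        show (q' * q⁻¹) • (q • (t • a)) = q' • (t • a) by rw [mul_smul, inv_smul_smul], fun u hu => ?_⟩
      refine Subtype.ext (eq_mul_inv_of_mul_eq (q_unique C.hS (mul_mem u.2 hq) hq' (b_ne C.hS) ?_))
      rw [mul_smul]
      exact hu) hp hUna
  rw [card_points C.hS, C.card_Q, add_left_inj, pow_mul'] at hΩ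
  rw [C.card_D, hV, Subgroup.card_bot, one_mul] at hDn
  have h4 := C.four_le
  have h2 : 1 ≤ 2 ^ n' := Nat.one_le_two_pow
  have e : Nat.card C.E = 2 ^ n' := by omega
  rw [← e] at hΩ
  exact absurd (Nat.pow_right_injective (by omega : 2 ≤ Nat.card C.E) hΩ) (by norm_num)

end Ctx

end Cfsg.Agent.Involutions.RankOne.U3.WNeBot
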