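import Cfsg.Agent.Lib.Involutions.RankOne.U3.WNeBot.Small
import Cfsg.Agent.Lib.Involutions.RankOne.U3.WNeBot.Simple
import Cfsg.Agent.Lib.Involutions.RankOne.U3.WNeBot.Restrict

/-!
# The transfer to `C_D(t)` for `p ≥ 5`
-/

set_option autoImplicit false
set_option linter.unusedSectionVars false
set_option linter.style.haveILetI false

namespace Cfsg.Agent.Involutions.RankOne.U3.WNeBot

open MulAction Involutions.Basic

variable {G Ω : Type*} [Group G] [Finite G] [MulAction G Ω] [FaithfulSMul G Ω]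
  {a : Ω} {t : G} {Q : Subgroup G}

local notation "H" => MulAction.stabilizer G a
local notation "D" => (MulAction.stabilizer G a ⊓ MulAction.stabilizer G (t • a))
set_option quotPrecheck false in
local notation "V" => (D ⊓ Subgroup.centralizer ({t} : Set G))

namespace Small

variable {C : Ctx G Ω a t Q} {v : G} {p : ℕ} (S : Small C v p)
include S

/-- A homomorphism of `G_a` onto `C_D(t)`, up to isomorphism. -/
theorem exists_hom : ∃ (L : Subgroup ↥H) (_ : L.Normal),
    IsMulCommutative (↥H ⧸ L) ∧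
      ∀ hvH : v ∈ H, ((⟨v, hvH⟩ : ↥H) : ↥H ⧸ L) ≠ 1 := by
  have hS := C.hS
  obtain ⟨g, hg, hn⟩ := C.exists_gen
  have hK : ∀ {k}, k ∈ Subgroup.zpowers g → k ∈ Cfsg.invertedBy D t := fun {k} hk => by
    rw [← hg]; exact hk
  have hKQ : Subgroup.zpowers g ≤ Subgroup.normalizer (Q : Set G) :=
    Subgroup.le_normalizer_iff.2 fun k hk x hx => hS.conj_mem k (hK hk).1.1 x hx
  have hsplit : ∀ x ∈ Q ⊔ Subgroup.zpowers g, ∃ q ∈ Q, ∃ k ∈ Subgroup.zpowers g, x = q * k := by
    intro x hx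
    rw [← SetLike.mem_coe, Subgroup.coe_mul_of_right_le_normalizer_left _ _ hKQ] at hx
    obtain ⟨q, hq, k, hk, rfl⟩ := hx
    exact ⟨q, hq, k, hk, rfl⟩
  have hleH : Q ⊔ Subgroup.zpowers g ≤ H := sup_le hS.le fun k hk => (hK hk).1.1
  have hconj : ∀ h ∈ H, ∀ x ∈ Q ⊔ Subgroup.zpowers g, h * x * h⁻¹ ∈ Q ⊔ Subgroup.zpowers g := by
    intro h hh x hx
    obtain ⟨q₁, hq₁, d, hd, rfl⟩ := exists_decomp hS hh
    obtain ⟨q, hq, k, hk, rfl⟩ := hsplit x hx
    have hdk : d * k * d⁻¹ ∈ Subgroup.zpowers g := by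
      obtain ⟨i, rfl⟩ := hk
      show d * g ^ i * d⁻¹ ∈ _
      rw [← conj_zpow]
      exact zpow_mem (hn d hd) i
    rw [show q₁ * d * (q * k) * (q₁ * d)⁻¹ = q₁ * ((d * q * d⁻¹) * (d * k * d⁻¹)) * q₁⁻¹ by group]
    exact mul_mem (mul_mem (Subgroup.mem_sup_left hq₁) (mul_mem
      (Subgroup.mem_sup_left (hS.conj_mem d hd.1 q hq)) (Subgroup.mem_sup_right hdk)))
      (inv_mem (Subgroup.mem_sup_left hq₁))
  let L := (Q ⊔ Subgroup.zpowers g).subgroupOf H
  have hL : L.Normal := ⟨fun x hx h => hconj h h.2 x hx⟩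
  have hvH : v ∈ H := (Subgroup.mem_inf.1 (Subgroup.mem_inf.1 S.mem).1).1
  refine ⟨L, hL, ?_, fun hvH => ?_⟩
  · have hgen : ∀ y : ↥H ⧸ L, y ∈ Subgroup.zpowers ((⟨v, hvH⟩ : ↥H) : ↥H ⧸ L) := by
      intro y
      obtain ⟨⟨h, hh⟩, rfl⟩ := QuotientGroup.mk_surjective y
      obtain ⟨q, hq, d, hd, rfl⟩ := exists_decomp hS hh
      obtain ⟨c, k, hc, hct, hk, rfl⟩ :=
        InvertedSet.exists_decomp hS.odd_card hS.mul_self (fun x hx => t_conj_mem_D hS hx) hd
      obtain ⟨i, rfl⟩ : c ∈ Subgroup.zpowers v :=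
        S.gen.symm ▸ Subgroup.mem_inf.2 ⟨hc, InvertedSet.mem_cent.2 hct⟩
      refine ⟨i, ?_⟩
      show ((⟨v, hvH⟩ : ↥H) : ↥H ⧸ L) ^ i = _
      rw [← QuotientGroup.mk_zpow, QuotientGroup.eq]
      show ((⟨v, hvH⟩ ^ i : ↥H) : G)⁻¹ * (q * (v ^ i * k)) ∈ Q ⊔ Subgroup.zpowers g
      rw [SubgroupClass.coe_zpow,
        show (v ^ i)⁻¹ * (q * (v ^ i * k)) = (v ^ i)⁻¹ * q * (v ^ i)⁻¹⁻¹ * k by group]
      exact mul_mem (Subgroup.mem_sup_left (hS.conj_mem _ (inv_mem (zpow_mem hvH i)) q hq))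
        (Subgroup.mem_sup_right (by rw [← SetLike.mem_coe, hg]; exact hk))
    exact ⟨⟨fun x y => by
      obtain ⟨i, rfl⟩ := hgen x
      obtain ⟨j, rfl⟩ := hgen y
      exact ((Commute.refl _).zpow_zpow i j).eq⟩⟩
  · rw [Ne, QuotientGroup.eq_one_iff]
    intro hmem
    obtain ⟨q, hq, k, hk, e⟩ := hsplit v hmem
    have h1 := eq_of_decomp hS hq (one_mem Q) (hK hk).1 (Subgroup.mem_inf.1 S.mem).1
      (by rw [one_mul]; exact e.symm)
    have h2 : v ∈ Cfsg.invertedBy D t := h1.2 ▸ hK hk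
    have h3 : t * v * t⁻¹ = v := InvertedSet.mem_cent.1 (Subgroup.mem_inf.1 S.mem).2
    have h4 : v * v = 1 := mul_eq_one_iff_eq_inv.2 (h3.symm.trans h2.2)
    have h5 := InvertedSet.eq_one_of_mul_self hS.odd_card (Subgroup.mem_inf.1 S.mem).1 h4
    exact S.prime.ne_one (by rw [← S.order, h5, orderOf_one])

/-- For `p ≥ 5` there is a proper subgroup containing `Q` and `t`. -/
theorem exists_proper (hp : 5 ≤ p) :
    ∃ N : Subgroup G, Q ≤ N ∧ t ∈ N ∧ Nat.card N < Nat.card G := by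
  classical
  have hS := C.hS
  haveI := finite_points hS
  haveI := pretransitive hS
  haveI := Fact.mk S.prime
  obtain ⟨L, hL, hcomm, hv1⟩ := S.exists_hom
  let : CommGroup (↥H ⧸ L) := { (inferInstance : Group (↥H ⧸ L)) with mul_comm := hcomm.is_comm.comm }
  have hvD : v ∈ D := (Subgroup.mem_inf.1 S.mem).1
  have hvH : v ∈ H := (Subgroup.mem_inf.1 hvD).1
  set x : ↥H ⧸ L := ((⟨v, hvH⟩ : ↥H) : ↥H ⧸ L) with hx
  let φ : ↥H →* ↥H ⧸ L := QuotientGroup.mk' L
  haveI : Subgroup.FiniteIndex H := inferInstance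
  haveI : Fintype (Quotient (orbitRel (Subgroup.zpowers v) (G ⧸ H))) := Fintype.ofFinite _
  let e := MulAction.orbitEquivQuotientStabilizer G a
  have hfix : ∀ c : G ⧸ H, v • c = c ↔ v • (c.out • a) = c.out • a := by
    intro c
    conv_lhs => rw [← QuotientGroup.out_eq' c]
    rw [MulAction.Quotient.smul_mk, QuotientGroup.eq]
    show ((v • c.out)⁻¹ * c.out) • a = a ↔ _
    rw [smul_eq_mul, mul_smul, inv_smul_eq_iff, mul_smul, eq_comm]
  have hper : ∀ o : Quotient (orbitRel (Subgroup.zpowers v) (G ⧸ H)),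
      Function.minimalPeriod (v • ·) o.out = if v • o.out = o.out then 1 else p := by
    intro o
    split_ifs with h
    · exact Function.minimalPeriod_eq_one_iff_isFixedPt.2 h
    · have hd : Function.minimalPeriod (v • ·) o.out ∣ p := by
        refine Function.IsPeriodicPt.minimalPeriod_dvd ?_
        show (v • ·)^[p] o.out = o.out
        rw [smul_iterate, ← S.order, pow_orderOf_eq_one]; exact one_smul G _
      exact ((Nat.dvd_prime S.prime).1 hd).resolve_left fun e1 =>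
        h (Function.minimalPeriod_eq_one_iff_isFixedPt.1 e1)
  have hterm : ∀ o : Quotient (orbitRel (Subgroup.zpowers v) (G ⧸ H)),
      φ ⟨o.out.out⁻¹ * v ^ Function.minimalPeriod (v • ·) o.out * o.out.out,
        QuotientGroup.out_conj_pow_minimalPeriod_mem H v o.out⟩ =
      if v • o.out = o.out then x else 1 := by
    intro o
    by_cases h : v • o.out = o.out
    · rw [if_pos h]
      have hc := (hfix _).1 h
      set g₀ := o.out.out with hg₀
      obtain ⟨g₁, hg₁, hg₁a⟩ : ∃ g₁ ∈ Subgroup.centralizer ({v} : Set G), g₁ • a = g₀ • a := by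
        by_cases hga : g₀ • a = a
        · exact ⟨1, one_mem _, by rw [one_smul, hga]⟩
        · obtain ⟨q, hq, hqc⟩ := exists_q hS hga
          have hqv := q_centralizes hS (X := {v}) (Set.singleton_subset_iff.2 hvD) hq
            (by rintro y (rfl : y = v); rw [hqc]; exact hc)
          exact ⟨q * t, mul_mem hqv (Subgroup.mem_centralizer_singleton_iff.2
            (Subgroup.mem_centralizer_singleton_iff.1 (Subgroup.mem_inf.1 S.mem).2).symm),
            by rw [mul_smul, hqc]⟩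
      let h₁ : ↥H := ⟨g₁⁻¹ * g₀, by show (g₁⁻¹ * g₀) • a = a; rw [mul_smul, ← hg₁a, inv_smul_smul]⟩
      have hcast : (⟨g₀⁻¹ * v ^ Function.minimalPeriod (v • ·) o.out * g₀,
          QuotientGroup.out_conj_pow_minimalPeriod_mem H v o.out⟩ : ↥H) = h₁⁻¹ * ⟨v, hvH⟩ * h₁ := by
        refine Subtype.ext ?_
        show g₀⁻¹ * v ^ Function.minimalPeriod (v • ·) o.out * g₀ = (g₁⁻¹ * g₀)⁻¹ * v * (g₁⁻¹ * g₀)
        rw [hper o, if_pos h, pow_one]
        calc g₀⁻¹ * v * g₀ = g₀⁻¹ * (v * g₁) * g₁⁻¹ * g₀ := by group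
          _ = g₀⁻¹ * (g₁ * v) * g₁⁻¹ * g₀ := by
              rw [(Subgroup.mem_centralizer_singleton_iff.1 hg₁).symm]
          _ = _ := by group
      rw [hcast, map_mul, map_mul, map_inv, mul_comm (φ h₁)⁻¹, inv_mul_cancel_right]
      rfl
    · rw [if_neg h, ← map_one φ]
      congr 1
      refine Subtype.ext ?_
      show o.out.out⁻¹ * v ^ Function.minimalPeriod (v • ·) o.out * o.out.out = 1
      rw [hper o, if_neg h, ← S.order, pow_orderOf_eq_one, mul_one, inv_mul_cancel]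
  have hcount : Nat.card {o : Quotient (orbitRel (Subgroup.zpowers v) (G ⧸ H)) // v • o.out = o.out} = 9 := by
    rw [← S.card_fixed_points]
    refine Nat.card_eq_of_bijective (fun o => ⟨o.1.out.out • a, (hfix _).1 o.2⟩) ⟨?_, ?_⟩
    · intro o o' h
      have h1 : o.1.out.out • a = o'.1.out.out • a := congrArg Subtype.val h
      have h2 : (o.1.out : G ⧸ H) = o'.1.out := by
        rw [← QuotientGroup.out_eq' o.1.out, ← QuotientGroup.out_eq' o'.1.out, QuotientGroup.eq]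
        show (o.1.out.out⁻¹ * o'.1.out.out) • a = a
        rw [mul_smul, ← h1, inv_smul_smul]
      exact Subtype.ext (by rw [← Quotient.out_eq o.1, h2, Quotient.out_eq])
    · rintro ⟨c, hc⟩
      obtain ⟨g₀, rfl⟩ := exists_smul_a hS c
      let o : Quotient (orbitRel (Subgroup.zpowers v) (G ⧸ H)) := Quotient.mk'' (g₀ : G ⧸ H)
      have hfixc : v • (g₀ : G ⧸ H) = g₀ := by
        rw [MulAction.Quotient.smul_mk, QuotientGroup.eq]
        show ((v • g₀)⁻¹ * g₀) • a = a
        rw [smul_eq_mul, mul_smul, inv_smul_eq_iff, mul_smul, hc]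
      have ho : o.out = (g₀ : G ⧸ H) := by
        have h1 : (orbitRel (Subgroup.zpowers v) (G ⧸ H)) o.out (g₀ : G ⧸ H) :=
          Quotient.exact' (Quotient.out_eq' o)
        obtain ⟨⟨w, hw⟩, hw'⟩ := h1
        rw [← hw']
        show w • (g₀ : G ⧸ H) = _
        have hst : v ∈ MulAction.stabilizer G (g₀ : G ⧸ H) := hfixc
        exact (Subgroup.zpowers_le.2 hst hw :)
      refine ⟨⟨o, by rw [ho, hfixc]⟩, Subtype.ext ?_⟩
      show o.out.out • a = g₀ • a
      have h3 : ((o.out.out : G) : G ⧸ H) = (g₀ : G ⧸ H) := by rw [QuotientGroup.out_eq', ho]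
      rw [QuotientGroup.eq] at h3
      have h4 : (o.out.out⁻¹ * g₀) • a = a := h3
      rw [mul_smul, inv_smul_eq_iff] at h4
      exact h4.symm
  set τ := MonoidHom.transfer φ with hτ
  have hτv : τ v = x ^ 9 := by
    rw [hτ, MonoidHom.transfer_eq_prod_quotient_orbitRel_zpowers_quot, Finset.prod_congr rfl
      (fun o _ => hterm o), Finset.prod_ite, Finset.prod_const, Finset.prod_const_one, mul_one,
      ← hcount, Nat.card_eq_fintype_card, Fintype.card_subtype]
  have hτ1 : τ v ≠ 1 := by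
    rw [hτv]
    intro e9
    have h1 : x ^ p = 1 := by
      rw [hx, ← QuotientGroup.mk_pow, QuotientGroup.eq_one_iff]
      convert one_mem L
      exact Subtype.ext (by rw [SubgroupClass.coe_pow, OneMemClass.coe_one, ← S.order]; exact pow_orderOf_eq_one v)
    have h2 : orderOf x ∣ Nat.gcd p 9 := Nat.dvd_gcd (orderOf_dvd_of_pow_eq_one h1) (orderOf_dvd_of_pow_eq_one e9)
    have h3 : Nat.Coprime p 9 := (Nat.coprime_primes S.prime Nat.prime_three).2 (by omega) |>.pow_right 2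
    rw [h3.gcd_eq_one, Nat.dvd_one] at h2
    exact hv1 hvH (orderOf_eq_one_iff.1 h2)
  have hker : τ.ker ≠ ⊥ := by
    intro hb
    have hinj : Function.Injective τ := τ.ker_eq_bot_iff.1 hb
    obtain ⟨k, hk, hk1⟩ := exists_K_ne_one hS C.h2
    refine hk1 (InvertedSet.eq_one_of_mul_self hS.odd_card hk.1 (mul_eq_one_iff_eq_inv.2 ?_))
    rw [← hk.2]
    refine hinj ?_
    rw [map_mul, map_mul, map_inv, mul_comm (τ t), mul_inv_cancel_right]
  obtain ⟨hQ, ht, -⟩ := C.normal_contains τ.ker hker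
  refine ⟨τ.ker, hQ, ht, lt_of_le_of_ne (Subgroup.card_le_card_group _) fun e => hτ1 ?_⟩
  have htop : τ.ker = ⊤ := Subgroup.eq_top_of_card_eq _ e
  exact MonoidHom.mem_ker.1 (htop ▸ Subgroup.mem_top v)

end Small

end Cfsg.Agent.Involutions.RankOne.U3.WNeBot
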