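import Mathlib

/-!
# Descent for semilinear actions

`v` of order dividing `m` moves a commuting family `X k` one step; if the differences of `m` of
them are injective, then `|M| = |C_M(v)| ^ m`.
-/

set_option autoImplicit false

namespace Cfsg.Agent.Involutions.RankOne.U3.WNeBot.Descent

variable {M : Type*} [AddCommGroup M] [Finite M] {m : ℕ}

/-- A matrix with invertible determinant has no kernel on a module. -/
theorem eq_zero_of_mulVec {S N : Type*} [CommRing S] [AddCommGroup N] [Module S N]
    (A : Matrix (Fin m) (Fin m) S) (hA : IsUnit A.det) (y : Fin m → N)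
    (h : ∀ i, ∑ k, A i k • y k = 0) : y = 0 := by
  classical
  funext l
  have h1 : ∑ i, A⁻¹ l i • ∑ k, A i k • y k = 0 :=
    Finset.sum_eq_zero fun i _ => by rw [h i, smul_zero]
  simp only [Finset.smul_sum, smul_smul] at h1
  rw [Finset.sum_comm] at h1
  simp only [← Finset.sum_smul, ← Matrix.mul_apply, Matrix.nonsing_inv_mul A hA, Matrix.one_apply,
    ite_smul, one_smul, zero_smul, Finset.sum_ite_eq, Finset.mem_univ, if_true] at h1
  exact h1

/-- Vandermonde systems of commuting endomorphisms with injective differences. -/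
theorem vandermonde_kernel (x : Fin m → AddMonoid.End M) (hcomm : ∀ i j, x i * x j = x j * x i)
    (hdiff : ∀ i j, i ≠ j → Function.Injective (x i - x j : AddMonoid.End M)) (y : Fin m → M) :
    ((∀ i : Fin m, ∑ k, (x k ^ (i : ℕ)) (y k) = 0) → y = 0) ∧
      ((∀ k : Fin m, ∑ i : Fin m, (x k ^ (i : ℕ)) (y i) = 0) → y = 0) := by
  classical
  haveI : Finite (AddMonoid.End M) := Finite.of_injective (fun f : AddMonoid.End M => (f : M → M))
    DFunLike.coe_injective
  set S := Subring.closure (Set.range x)
  letI : CommRing S := Subring.closureCommRingOfComm (by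
    rintro _ ⟨i, rfl⟩ _ ⟨j, rfl⟩
    exact hcomm i j)
  let x' : Fin m → S := fun k => ⟨x k, Subring.subset_closure ⟨k, rfl⟩⟩
  have hdet : IsUnit (Matrix.vandermonde x').det := by
    rw [Matrix.det_vandermonde]
    refine IsUnit.prod_iff.2 fun i _ => IsUnit.prod_iff.2 fun j hj => ?_
    have hne : j ≠ i := (Finset.mem_Ioi.1 hj).ne'
    have hinj : Function.Injective fun s : S => (x' j - x' i) * s := by
      intro s s' e
      refine Subtype.ext (AddMonoidHom.ext fun z => hdiff j i hne ?_)
      exact congrArg (fun f : S => (f : AddMonoid.End M) z) e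
    obtain ⟨s, hs⟩ := (Finite.injective_iff_surjective.1 hinj) 1
    exact IsUnit.of_mul_eq_one s hs
  constructor
  · intro h
    refine eq_zero_of_mulVec (S := S) (Matrix.vandermonde x').transpose
      (by rwa [Matrix.det_transpose]) y fun i => ?_
    simp only [Matrix.transpose_apply, Matrix.vandermonde_apply]
    exact h i
  · intro h
    refine eq_zero_of_mulVec (S := S) (Matrix.vandermonde x') hdet y fun k => ?_
    simp only [Matrix.vandermonde_apply]
    exact h k

/-- Descent. -/
theorem card_eq_pow (v : AddMonoid.End M) (hm : 0 < m) (hv : v ^ m = 1) (X : ℕ → AddMonoid.End M)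
    (hstep : ∀ k, v * X k = X (k + 1) * v)
    (hcomm : ∀ k l, X k * X l = X l * X k)
    (hdiff : ∀ k l, k < m → l < m → k ≠ l → Function.Injective (X k - X l : AddMonoid.End M)) :
    Nat.card M = Nat.card {y : M // v y = y} ^ m := by
  classical
  let x : Fin m → AddMonoid.End M := fun k => X k
  have hV := fun y => vandermonde_kernel x (fun i j => hcomm i j)
    (fun i j hij => hdiff i j i.2 j.2 (fun e => hij (Fin.ext e))) y
  have hpow : ∀ k i : ℕ, v ^ k * X 0 ^ i = X k ^ i * v ^ k := by
    intro k
    induction k with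
    | zero => simp
    | succ k ih =>
      intro i
      rw [pow_succ', mul_assoc, ih, ← mul_assoc, (SemiconjBy.pow_right (hstep k : SemiconjBy v (X k) (X (k + 1))) i).eq,
        mul_assoc]
  let T : AddMonoid.End M := ∑ k ∈ Finset.range m, v ^ k
  have hT : v * T = T := by
    show v * ∑ k ∈ Finset.range m, v ^ k = ∑ k ∈ Finset.range m, v ^ k
    have h1 := Finset.sum_range_succ' (fun k => v ^ k) m
    rw [Finset.sum_range_succ, hv, pow_zero] at h1
    rw [Finset.mul_sum]
    simp only [← pow_succ']
    exact (add_right_cancel h1).symm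
  have hfix : ∀ y, v y = y → ∀ k : ℕ, (v ^ k) y = y := by
    intro y hy k
    induction k with
    | zero => rw [pow_zero]; rfl
    | succ k ih =>
      rw [pow_succ]
      show (v ^ k) (v y) = y
      rw [hy, ih]
  let Φ : M → (Fin m → {y : M // v y = y}) := fun z i =>
    ⟨T ((X 0 ^ (i : ℕ)) z), congrArg (fun f : AddMonoid.End M => f ((X 0 ^ (i : ℕ)) z)) hT⟩
  have hΦ : Function.Injective Φ := by
    intro z z' e
    have key : (fun k : Fin m => (v ^ (k : ℕ)) (z - z')) = 0 := by
      refine (hV _).1 fun i => ?_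
      have e1 : T ((X 0 ^ (i : ℕ)) (z - z')) = 0 := by
        rw [map_sub, map_sub, sub_eq_zero]
        exact congrArg Subtype.val (congrFun e i)
      rw [← e1]
      show _ = (∑ k ∈ Finset.range m, v ^ k) ((X 0 ^ (i : ℕ)) (z - z'))
      rw [show ∀ w, (∑ k ∈ Finset.range m, v ^ k) w = ∑ k ∈ Finset.range m, (v ^ k) w from fun w =>
        map_sum (AddMonoidHom.eval w : (M →+ M) →+ M) _ _, Finset.sum_range]
      exact Finset.sum_congr rfl fun k _ =>
        (congrArg (fun f : AddMonoid.End M => f (z - z')) (hpow k i)).symm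
    have := congrFun key ⟨0, hm⟩
    simpa [sub_eq_zero] using this
  let Ψ : (Fin m → {y : M // v y = y}) → M := fun c => ∑ i : Fin m, (X 0 ^ (i : ℕ)) (c i).1
  have hΨ : Function.Injective Ψ := by
    intro c c' e
    have key : (fun i => (c i).1 - (c' i).1) = 0 := by
      refine (hV _).2 fun k => ?_
      have e1 : (∑ i : Fin m, (X 0 ^ (i : ℕ)) ((c i).1 - (c' i).1)) = 0 := by
        simp only [map_sub, Finset.sum_sub_distrib, sub_eq_zero]
        exact e
      have e2 := congrArg (v ^ (k : ℕ) : AddMonoid.End M) e1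
      rw [map_zero, map_sum] at e2
      rw [← e2]
      refine Finset.sum_congr rfl fun i _ => ?_
      rw [show (v ^ (k : ℕ)) ((X 0 ^ (i : ℕ)) ((c i).1 - (c' i).1)) =
          (v ^ (k : ℕ) * X 0 ^ (i : ℕ)) ((c i).1 - (c' i).1) from rfl, hpow]
      show _ = (X k ^ (i : ℕ)) ((v ^ (k : ℕ)) ((c i).1 - (c' i).1))
      rw [hfix _ (by rw [map_sub, (c i).2, (c' i).2])]
    funext i
    exact Subtype.ext (sub_eq_zero.1 (congrFun key i))
  have h1 := Nat.card_le_card_of_injective Φ hΦ
  have h2 := Nat.card_le_card_of_injective Ψ hΨ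
  rw [Nat.card_fun, Nat.card_eq_fintype_card (α := Fin m), Fintype.card_fin] at h1 h2
  exact le_antisymm h1 h2

end Cfsg.Agent.Involutions.RankOne.U3.WNeBot.Descent
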