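import Cfsg.Agent.Lib.Involutions.RankOne.Peterfalvi
import Cfsg.Agent.Lib.Involutions.RankOne.U3.WNeBot.Descent
import Cfsg.Agent.S0205

/-!
# Fixed points of `C_D(t)` when no element of `D` centralizes the involutions of `G_a`
-/

set_option autoImplicit false
set_option linter.unusedSectionVars false
set_option linter.style.haveILetI false

namespace Cfsg.Agent.Involutions.RankOne.U3.WNeBot

open MulAction Involutions.Basic

variable {G Ω : Type*} [Group G] [Finite G] [MulAction G Ω] [FaithfulSMul G Ω]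
  {a : Ω} {t : G} {Q : Subgroup G}

local notation "H" => MulAction.stabilizer G a
local notation "D" => (MulAction.stabilizer G a ⊓ MulAction.stabilizer G (t • a))
set_option quotPrecheck false in
local notation "V" => (D ⊓ Subgroup.centralizer ({t} : Set G))

/-- The hypotheses of the lemma `W ≠ 1`, with the negated conclusion. -/
structure Ctx (G Ω : Type*) [Group G] [MulAction G Ω] (a : Ω) (t : G) (Q : Subgroup G) : Prop where
  hS : Cfsg.IsRankOneSetup G Ω a t Q
  h2 : ∃ x y : G, x ≠ 1 ∧ y ≠ 1 ∧ x ≠ y ∧ x * x = 1 ∧ y * y = 1 ∧ x * y = y * x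
  exp : ∀ x ∈ Q, x ^ 4 = 1
  card : Nat.card Q =
    (Nat.card (Cfsg.involutionsIn (MulAction.stabilizer G a : Set G)) + 1) ^ 3
  faith : (MulAction.stabilizer G a ⊓ MulAction.stabilizer G (t • a)) ⊓
    Subgroup.centralizer (Cfsg.involutionsIn (MulAction.stabilizer G a : Set G)) = ⊥

namespace Ctx

variable (C : Ctx G Ω a t Q)
include C

/-- The involutions of `G_a` and the identity. -/
def E (C : Ctx G Ω a t Q) : Subgroup G where
  carrier := {x | x = 1 ∨ x ∈ Cfsg.involutionsIn (MulAction.stabilizer G a : Set G)}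
  one_mem' := Or.inl rfl
  mul_mem' := fun {x y} hx hy => by
    rcases hx with rfl | hx
    · rwa [one_mul]
    rcases hy with rfl | hy
    · rw [mul_one]; exact Or.inr hx
    exact involutions_closed C.hS C.h2 hx hy
  inv_mem' := fun {x} hx => by
    rcases hx with rfl | hx
    · exact Or.inl inv_one
    · rw [inv_eq_of_mul_eq_one_right hx.2.2]; exact Or.inr hx

theorem mem_E {x : G} : x ∈ C.E ↔ x ∈ H ∧ x * x = 1 := by
  constructor
  · rintro (rfl | h)
    · exact ⟨one_mem _, one_mul 1⟩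
    · exact ⟨h.1, h.2.2⟩
  · rintro ⟨h, h'⟩
    by_cases hx : x = 1
    · exact Or.inl hx
    · exact Or.inr ⟨h, hx, h'⟩

theorem E_le : C.E ≤ Q := fun _ hx => involution_mem C.hS (C.mem_E.1 hx).1 (C.mem_E.1 hx).2

theorem E_sq {x : G} (hx : x ∈ C.E) : x * x = 1 := (C.mem_E.1 hx).2

theorem E_comm {x y : G} (hx : x ∈ C.E) (hy : y ∈ Q) : x * y = y * x := by
  rcases hx with rfl | hx
  · simp
  · exact involution_central C.hS C.h2 hx hy

theorem conj_E {d x : G} (hd : d ∈ H) (hx : x ∈ C.E) : d * x * d⁻¹ ∈ C.E := by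
  rw [C.mem_E] at hx ⊢
  refine ⟨mul_mem (mul_mem hd hx.1) (inv_mem hd), ?_⟩
  rw [show d * x * d⁻¹ * (d * x * d⁻¹) = d * (x * x) * d⁻¹ by group, hx.2]
  group

theorem card_E : Nat.card C.E = Nat.card (Cfsg.involutionsIn (H : Set G)) + 1 := by
  classical
  rw [← Finite.card_option]
  refine Nat.card_eq_of_bijective
    (fun x : C.E => if h : (x : G) = 1 then none else some ⟨x.1, x.2.resolve_left h⟩) ⟨?_, ?_⟩
  · intro x y e
    by_cases hx : (x : G) = 1 <;> by_cases hy : (y : G) = 1 <;>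
      simp only [hx, hy, dite_true, dite_false, reduceCtorEq, Option.some.injEq, Subtype.mk.injEq] at e
    · exact Subtype.ext (hx.trans hy.symm)
    · exact Subtype.ext e
  · rintro (_ | ⟨x, hx⟩)
    · exact ⟨1, by simp⟩
    · exact ⟨⟨x, Or.inr hx⟩, by simp [hx.2.1]⟩

theorem card_Q : Nat.card Q = Nat.card C.E ^ 3 := by rw [C.card_E]; exact C.card

theorem four_le : 4 ≤ Nat.card C.E := by
  obtain ⟨s, hs, s', hs', hne⟩ := exists_two C.hS C.h2
  have h3 : 3 ≤ Nat.card C.E := by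
    have : Function.Injective (![⟨1, one_mem _⟩, ⟨s, Or.inr hs⟩, ⟨s', Or.inr hs'⟩] : Fin 3 → C.E) := by
      intro i j e
      fin_cases i <;> fin_cases j <;>
        first
          | rfl
          | exact absurd (congrArg Subtype.val e) (by
              simp only [Matrix.cons_val_zero, Matrix.cons_val_one, Matrix.cons_val]
              first
                | exact Ne.symm hs.2.1
                | exact hs.2.1
                | exact Ne.symm hs'.2.1
                | exact hs'.2.1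
                | exact hne
                | exact hne.symm)
    simpa using Nat.card_le_card_of_injective _ this
  have h2' : 2 ∣ Nat.card C.E := by
    have h := orderOf_dvd_natCard (⟨s, Or.inr hs⟩ : C.E)
    rwa [← Subgroup.orderOf_coe, orderOf_two_iff.2 ⟨hs.2.2, hs.2.1⟩] at h
  omega

theorem card_K : Nat.card (Cfsg.invertedBy D t) + 1 = Nat.card C.E := by
  rw [C.card_E, RankOne.card_K C.hS]

theorem card_D :
    Nat.card ↥D = Nat.card ↥V * (Nat.card C.E - 1) := by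
  rw [InvertedSet.card_eq C.hS.odd_card C.hS.mul_self (fun x hx => t_conj_mem_D C.hS hx),
    show Nat.card C.E - 1 = Nat.card (Cfsg.invertedBy D t) by have := C.card_K; omega]

theorem odd_V {u : G} (hu : u ∈ V) : Odd (orderOf u) :=
  C.hS.odd_card.of_dvd_nat (Subgroup.orderOf_dvd_natCard _ (Subgroup.mem_inf.1 hu).1)

/-- The matched involution. -/
theorem exists_s : ∃ s ∈ C.E, s ≠ 1 ∧ ∀ d ∈ D, (d ∈ V ↔ d * s = s * d) := by
  obtain ⟨⟨s, r⟩, ⟨hs, hr, heq⟩, -⟩ := exists_pair C.hS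
  simp only at hs hr heq
  refine ⟨s, Or.inr hs, hs.2.1, fun d hd => ?_⟩
  rw [cent_t_eq C.hS hs hr heq, Subgroup.mem_inf, Subgroup.mem_centralizer_singleton_iff]
  exact ⟨fun h => h.2, fun h => ⟨hd, h⟩⟩

theorem exists_gen : ∃ g : G, (Subgroup.zpowers g : Set G) = Cfsg.invertedBy D t ∧
    ∀ d ∈ D, d * g * d⁻¹ ∈ Subgroup.zpowers g := by
  obtain ⟨K, hK, hc, hn⟩ := inverted_cyclic_normal C.hS C.h2 (Cfsg.Agent.S0205.result C.hS.odd_card)
  obtain ⟨g, hg⟩ := (Subgroup.isCyclic_iff_exists_zpowers_eq_top K).1 hc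
  refine ⟨g, by rw [hg, hK], fun d hd => ?_⟩
  rw [hg]
  exact hn d hd g (hg ▸ Subgroup.mem_zpowers g)

/-- A generator of the inverted set commutes only with the trivial element of `C_D(t)`. -/
theorem eq_one_of_comm {g : G} (hg : (Subgroup.zpowers g : Set G) = Cfsg.invertedBy D t) {u : G}
    (hu : u ∈ V) (hc : u * g = g * u) : u = 1 := by
  obtain ⟨s, hs, hs1, hV⟩ := C.exists_s
  have hus : u * s = s * u := (hV u (Subgroup.mem_inf.1 hu).1).1 hu
  refine Subgroup.mem_bot.1 (C.faith ▸ Subgroup.mem_inf.2 ⟨(Subgroup.mem_inf.1 hu).1, ?_⟩)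
  rw [Subgroup.mem_centralizer_iff]
  intro x hx
  obtain ⟨k, hk, rfl⟩ := exists_K C.hS (hs.resolve_left hs1) hx
  rw [← hg] at hk
  obtain ⟨i, rfl⟩ := hk
  have h1 : Commute u (g ^ i) := (show Commute u g from hc).zpow_right i
  exact ((h1.mul_right hus).mul_right h1.inv_right).eq.symm

theorem V_cyclic : ∃ v : G, Subgroup.zpowers v = V := by
  obtain ⟨v, hv, h⟩ := centralizer_quotient_cyclic C.hS C.h2 (Cfsg.Agent.S0205.result C.hS.odd_card)
  obtain ⟨g, hg, -⟩ := C.exists_gen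
  refine ⟨v, ?_⟩
  have hbot : V ⊓ Subgroup.centralizer (Cfsg.invertedBy D t) = ⊥ := by
    rw [Subgroup.eq_bot_iff_forall]
    rintro u ⟨hu, hu'⟩
    exact C.eq_one_of_comm hg hu
      (Subgroup.mem_centralizer_iff.1 hu' g (hg ▸ Subgroup.mem_zpowers g)).symm
  rw [← h, hbot, bot_sup_eq, Subgroup.zpowers_eq_closure]

/-- Conjugation by `u` moves the conjugates of a generator of `K` one step. -/
theorem orbit_facts {g : G} (hg : (Subgroup.zpowers g : Set G) = Cfsg.invertedBy D t)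
    (hn : ∀ d ∈ D, d * g * d⁻¹ ∈ Subgroup.zpowers g) {u : G} (hu : u ∈ V) :
    (∀ k : ℕ, u ^ k * g * (u ^ k)⁻¹ ∈ Cfsg.invertedBy D t) ∧
    (∀ k l : ℕ, Commute (u ^ k * g * (u ^ k)⁻¹) (u ^ l * g * (u ^ l)⁻¹)) ∧
    ∀ k l : ℕ, k < orderOf u → l < orderOf u →
      u ^ k * g * (u ^ k)⁻¹ = u ^ l * g * (u ^ l)⁻¹ → k = l := by
  have hmem : ∀ k : ℕ, u ^ k * g * (u ^ k)⁻¹ ∈ Subgroup.zpowers g := fun k =>
    hn _ (pow_mem (Subgroup.mem_inf.1 hu).1 k)
  refine ⟨fun k => by rw [← hg]; exact hmem k, fun k l => ?_, fun k l hk hl e => ?_⟩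
  · obtain ⟨i, hi⟩ := hmem k
    obtain ⟨j, hj⟩ := hmem l
    rw [← hi, ← hj]
    exact (Commute.refl g).zpow_zpow i j
  · refine pow_injOn_Iio_orderOf (Set.mem_Iio.2 hk) (Set.mem_Iio.2 hl) ?_
    show u ^ k = u ^ l
    refine (inv_mul_eq_one.1 (C.eq_one_of_comm hg (mul_mem (inv_mem (pow_mem hu l)) (pow_mem hu k)) ?_)).symm
    calc (u ^ l)⁻¹ * u ^ k * g = (u ^ l)⁻¹ * (u ^ k * g * (u ^ k)⁻¹) * u ^ k := by group
      _ = (u ^ l)⁻¹ * (u ^ l * g * (u ^ l)⁻¹) * u ^ k := by rw [e]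
      _ = g * ((u ^ l)⁻¹ * u ^ k) := by group

/-- The order formula for an abelian group acted on by `D`, with `K` acting freely. -/
theorem card_fixed_pow {L : Type*} [Group L] [Finite L] (hL : ∀ x y : L, x * y = y * x)
    (φ : ↥D →* MulAut L)
    (hfree : ∀ k : ↥D, (k : G) ∈ Cfsg.invertedBy D t → k ≠ 1 → ∀ y, φ k y = y → y = 1)
    {u : G} (hu : u ∈ V) :
    Nat.card L = Nat.card {y : L // φ ⟨u, (Subgroup.mem_inf.1 hu).1⟩ y = y} ^ orderOf u := by
  let : CommGroup L := { ‹Group L› with mul_comm := hL }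
  obtain ⟨g, hg, hn⟩ := C.exists_gen
  obtain ⟨hK, hcom, hinj⟩ := C.orbit_facts hg hn hu
  let ψ : ↥D →* AddMonoid.End (Additive L) :=
    { toFun := fun d => MonoidHom.toAdditive (φ d).toMonoidHom
      map_one' := by
        refine AddMonoidHom.ext fun y => Additive.toMul.injective ?_
        show φ 1 y.toMul = y.toMul
        rw [map_one]; rfl
      map_mul' := fun c d => by
        refine AddMonoidHom.ext fun y => Additive.toMul.injective ?_
        show φ (c * d) y.toMul = φ c (φ d y.toMul)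
        rw [map_mul]; rfl }
  let d₀ : ↥D := ⟨u, (Subgroup.mem_inf.1 hu).1⟩
  let g₀ : ↥D := ⟨g, (hg ▸ Subgroup.mem_zpowers g : g ∈ Cfsg.invertedBy D t).1⟩
  have hd₀ : orderOf d₀ = orderOf u := Subgroup.orderOf_mk ..
  have hconj : ∀ k : ℕ, ((d₀ ^ k * g₀ * (d₀ ^ k)⁻¹ : ↥D) : G) = u ^ k * g * (u ^ k)⁻¹ := fun k => by
    push_cast; rfl
  have key := Descent.card_eq_pow (M := Additive L) (m := orderOf u) (ψ d₀) (orderOf_pos u)
    (by rw [← map_pow, ← hd₀, pow_orderOf_eq_one, map_one])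
    (fun k => ψ (d₀ ^ k * g₀ * (d₀ ^ k)⁻¹))
    (fun k => by rw [← map_mul, ← map_mul]; congr 1; group)
    (fun k l => by
      rw [← map_mul, ← map_mul]
      congr 1
      refine Subtype.ext ?_
      have h1 := (hcom k l).eq
      rw [← hconj, ← hconj] at h1
      exact h1)
    (fun k l hk hl hne => ?_)
  · refine key.trans ?_
    congr 1
  · intro y z e
    set A := d₀ ^ k * g₀ * (d₀ ^ k)⁻¹
    set B := d₀ ^ l * g₀ * (d₀ ^ l)⁻¹
    have hne' : B⁻¹ * A ≠ 1 := fun e1 => hne (hinj k l hk hl (by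
      rw [← hconj, ← hconj]; exact congrArg Subtype.val (inv_mul_eq_one.1 e1).symm))
    have hmem : ((B⁻¹ * A : ↥D) : G) ∈ Cfsg.invertedBy D t := by
      rw [← hg, Subgroup.coe_mul, Subgroup.coe_inv, hconj, hconj]
      exact mul_mem (inv_mem (by rw [← SetLike.mem_coe, hg]; exact hK l))
        (by rw [← SetLike.mem_coe, hg]; exact hK k)
    have e' : ψ A (y - z) = ψ B (y - z) := by
      have h0 : (ψ A - ψ B) (y - z) = 0 := by rw [map_sub, e, sub_self]
      exact sub_eq_zero.1 h0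
    refine sub_eq_zero.1 (Additive.toMul.injective ?_)
    refine hfree _ hmem hne' _ ?_
    rw [map_mul]
    show φ B⁻¹ (φ A (y - z).toMul) = (y - z).toMul
    rw [show φ A (y - z).toMul = φ B (y - z).toMul from congrArg Additive.toMul e']
    show (φ B⁻¹ * φ B) (y - z).toMul = (y - z).toMul
    rw [← map_mul, inv_mul_cancel, map_one]
    rfl

omit C in
theorem D_le_normalizer (S : Subgroup G) (h : ∀ d ∈ D, ∀ x ∈ S, d * x * d⁻¹ ∈ S) :
    D ≤ Subgroup.normalizer (S : Set G) := Subgroup.le_normalizer_iff.2 h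

theorem K_free {k x : G} (hk : k ∈ Cfsg.invertedBy D t) (hk1 : k ≠ 1) (hx : x ∈ Q)
    (h : k * x * k⁻¹ = x) : x = 1 :=
  Subgroup.mem_bot.1 (cent_Q_eq_one C.hS hk hk1 ▸ Subgroup.mem_inf.2
    ⟨hx, Subgroup.mem_centralizer_singleton_iff.2 (mul_inv_eq_iff_eq_mul.1 h).symm⟩)

/-- `|E| = |C_E(u)| ^ |u|`. -/
theorem card_E_pow {u : G} (hu : u ∈ V) :
    Nat.card C.E = Nat.card ↥(C.E ⊓ Subgroup.centralizer ({u} : Set G)) ^ orderOf u := by
  let φ : ↥D →* MulAut C.E := (Subgroup.normalizerMonoidHom C.E).comp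
    (Subgroup.inclusion (D_le_normalizer C.E fun d hd x hx => C.conj_E hd.1 hx))
  have hφ : ∀ d y, ((φ d y : C.E) : G) = (d : G) * (y : G) * (d : G)⁻¹ := fun d y => rfl
  have := C.card_fixed_pow (L := C.E) (fun x y => Subtype.ext (C.E_comm x.2 (C.E_le y.2))) φ
    (fun k hk hk1 y hy => Subtype.ext (C.K_free hk (fun e => hk1 (Subtype.ext e)) (C.E_le y.2)
      (by rw [← hφ, hy]))) hu
  refine this.trans ?_
  congr 1
  refine Nat.card_congr
    { toFun := fun y => ⟨y.1.1, Subgroup.mem_inf.2 ⟨y.1.2, Subgroup.mem_centralizer_singleton_iff.2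
        (mul_inv_eq_iff_eq_mul.1 (congrArg Subtype.val y.2)).symm⟩⟩
      invFun := fun y => ⟨⟨y.1, y.2.1⟩, Subtype.ext (mul_inv_eq_iff_eq_mul.2
        (Subgroup.mem_centralizer_singleton_iff.1 y.2.2).symm)⟩
      left_inv := fun _ => rfl
      right_inv := fun _ => rfl }

/-- A `u`-invariant coset of `E` in `Q` contains a fixed element. -/
theorem exists_fixed_in_coset {u x : G} (hu : u ∈ V) (hx : x ∈ Q)
    (h : x⁻¹ * (u * x * u⁻¹) ∈ C.E) : ∃ e ∈ C.E, u * (x * e) * u⁻¹ = x * e := by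
  have huH : u ∈ H := (Subgroup.mem_inf.1 (Subgroup.mem_inf.1 hu).1).1
  let F : ℕ → G := fun i => x⁻¹ * (u ^ i * x * (u ^ i)⁻¹)
  let T : G →* G := (MulAut.conj u).toMonoidHom
  have hT : ∀ y, T y = u * y * u⁻¹ := fun y => rfl
  have hstep : ∀ i, F (i + 1) = F 1 * T (F i) := fun i => by
    simp only [F, hT, pow_one, pow_succ']
    group
  have hFE : ∀ i, F i ∈ C.E := by
    intro i
    induction i with
    | zero => simp [F]
    | succ i ih => rw [hstep]; exact mul_mem (by simpa [F] using h) (C.conj_E huH ih)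
  let P : ℕ → G := fun n => (List.range n).map F |>.prod
  have hP : ∀ n, P n ∈ C.E := fun n => list_prod_mem fun y hy => by
    obtain ⟨i, -, rfl⟩ := List.mem_map.1 hy
    exact hFE i
  have hcomm : ∀ {y z}, y ∈ C.E → z ∈ C.E → y * z = z * y := fun hy hz =>
    C.E_comm hy (C.E_le hz)
  have hTP : ∀ n, T (P n) * F 1 ^ n * F 0 = P (n + 1) := by
    intro n
    induction n with
    | zero => simp [P]
    | succ n ih =>
      have e1 : P (n + 1) = P n * F n := by simp [P, List.range_succ]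
      have e2 : P (n + 1 + 1) = P (n + 1) * F (n + 1) := by simp [P, List.range_succ, mul_assoc]
      have hTn : T (F n) ∈ C.E := by rw [hT]; exact C.conj_E huH (hFE n)
      conv_lhs => rw [e1, map_mul, pow_succ]
      rw [e2, ← ih, hstep n]
      have c1 : T (F n) * (F 1 ^ n * F 1 * F 0) = F 1 ^ n * F 0 * (F 1 * T (F n)) := by
        have a1 : F 1 ^ n * F 1 * F 0 = F 1 ^ n * F 0 * F 1 := by
          rw [mul_assoc, hcomm (hFE 1) (hFE 0), ← mul_assoc]
        rw [a1, hcomm hTn (mul_mem (mul_mem (pow_mem (hFE 1) n) (hFE 0)) (hFE 1)), mul_assoc]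
      calc T (P n) * T (F n) * (F 1 ^ n * F 1) * F 0
          = T (P n) * (T (F n) * (F 1 ^ n * F 1 * F 0)) := by simp only [mul_assoc]
        _ = T (P n) * (F 1 ^ n * F 0 * (F 1 * T (F n))) := by rw [c1]
        _ = T (P n) * F 1 ^ n * F 0 * (F 1 * T (F n)) := by simp only [mul_assoc]
  have hm := hTP (orderOf u)
  have hF0 : F 0 = 1 := by simp [F]
  have hFm : F (orderOf u) = 1 := by simp [F, pow_orderOf_eq_one]
  have e1 : P (orderOf u + 1) = P (orderOf u) * F (orderOf u) := by simp [P, List.range_succ]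
  obtain ⟨j, hj⟩ := C.odd_V hu
  have hpow : F 1 ^ orderOf u = F 1 := by
    rw [hj, pow_succ, pow_mul, sq, C.E_sq (hFE 1), one_pow, one_mul]
  rw [e1, hFm, hF0, mul_one, mul_one, hpow] at hm
  refine ⟨P (orderOf u), hP _, ?_⟩
  have hux : u * x * u⁻¹ = x * F 1 := by simp only [F, pow_one]; group
  calc u * (x * P (orderOf u)) * u⁻¹ = (u * x * u⁻¹) * T (P (orderOf u)) := by rw [hT]; group
    _ = x * (F 1 * T (P (orderOf u))) := by rw [hux, mul_assoc]
    _ = x * (T (P (orderOf u)) * F 1) := by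
        rw [hcomm (hFE 1) (by rw [hT]; exact C.conj_E huH (hP _))]
    _ = x * P (orderOf u) := by rw [hm]

/-- `|C_Q(u)| = |C_E(u)| ^ 3`. -/
theorem card_cent_Q {u : G} (hu : u ∈ V) :
    Nat.card ↥(Q ⊓ Subgroup.centralizer ({u} : Set G)) =
      Nat.card ↥(C.E ⊓ Subgroup.centralizer ({u} : Set G)) ^ 3 := by
  let E' := C.E.subgroupOf Q
  haveI : E'.Normal := ⟨fun e he y => C.conj_E (C.hS.le y.2) he⟩
  have hsq : ∀ y : Q ⧸ E', y * y = 1 := by
    intro y
    obtain ⟨x, rfl⟩ := QuotientGroup.mk_surjective y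
    rw [← QuotientGroup.mk_mul, QuotientGroup.eq_one_iff]
    show (x : G) * x ∈ C.E
    refine C.mem_E.2 ⟨mul_mem (C.hS.le x.2) (C.hS.le x.2), ?_⟩
    rw [show (x : G) * x * (x * x) = (x : G) ^ 4 by simp only [pow_succ, pow_zero, one_mul, mul_assoc]]
    exact C.exp x x.2
  have hL : ∀ y z : Q ⧸ E', y * z = z * y := fun y z => by
    rw [← inv_eq_of_mul_eq_one_right (hsq (y * z)), mul_inv_rev, inv_eq_of_mul_eq_one_right (hsq y),
      inv_eq_of_mul_eq_one_right (hsq z)]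
  let ρ : ↥D →* MulAut Q := (Subgroup.normalizerMonoidHom Q).comp
    (Subgroup.inclusion (D_le_normalizer Q fun d hd x hx => C.hS.conj_mem d hd.1 x hx))
  have hρ : ∀ d (y : Q), ((ρ d y : Q) : G) = (d : G) * (y : G) * (d : G)⁻¹ := fun d y => rfl
  have hE' : ∀ d : ↥D, E' ≤ E'.comap (ρ d).toMonoidHom := fun d y hy => by
    show ((ρ d y : Q) : G) ∈ C.E
    rw [hρ]
    exact C.conj_E d.2.1 hy
  let μ : ↥D → (Q ⧸ E' →* Q ⧸ E') := fun d => QuotientGroup.map E' E' (ρ d).toMonoidHom (hE' d)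
  have hμ : ∀ d (x : Q), μ d x = ((ρ d x : Q) : Q ⧸ E') := fun d x => rfl
  have hμ1 : ∀ y, μ 1 y = y := fun y => by
    obtain ⟨x, rfl⟩ := QuotientGroup.mk_surjective y
    rw [hμ, map_one]; rfl
  have hμm : ∀ c d y, μ (c * d) y = μ c (μ d y) := fun c d y => by
    obtain ⟨x, rfl⟩ := QuotientGroup.mk_surjective y
    rw [hμ, hμ, hμ, map_mul]; rfl
  let φ : ↥D →* MulAut (Q ⧸ E') :=
    { toFun := fun d =>
        { toFun := μ d, invFun := μ d⁻¹
          left_inv := fun y => by rw [← hμm, inv_mul_cancel, hμ1]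
          right_inv := fun y => by rw [← hμm, mul_inv_cancel, hμ1]
          map_mul' := map_mul (μ d) }
      map_one' := MulEquiv.ext hμ1
      map_mul' := fun c d => MulEquiv.ext (hμm c d) }
  have hfree : ∀ k : ↥D, (k : G) ∈ Cfsg.invertedBy D t → k ≠ 1 →
      ∀ y, φ k y = y → y = 1 := by
    intro k hk hk1 y hy
    obtain ⟨x, rfl⟩ := QuotientGroup.mk_surjective y
    rw [QuotientGroup.eq_one_iff]
    show (x : G) ∈ C.E
    have hy' : ((ρ k x : Q) : Q ⧸ E') = (x : Q ⧸ E') := hy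
    rw [QuotientGroup.eq] at hy'
    have h1 : ((ρ k x : Q) : G)⁻¹ * (x : G) ∈ C.E := hy'
    rw [hρ] at h1
    have hk1' : (k : G) ≠ 1 := fun e => hk1 (Subtype.ext e)
    let ψ : C.E → C.E := fun e => ⟨(k : G) * e * (k : G)⁻¹ * (e : G)⁻¹,
      mul_mem (C.conj_E k.2.1 e.2) (inv_mem e.2)⟩
    have hψ : Function.Injective ψ := by
      intro e f hef
      have e1 : (k : G) * e * (k : G)⁻¹ * (e : G)⁻¹ = (k : G) * f * (k : G)⁻¹ * (f : G)⁻¹ :=
        congrArg Subtype.val hef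
      refine Subtype.ext (inv_mul_eq_one.1 (C.K_free hk hk1'
        (mul_mem (inv_mem (C.E_le f.2)) (C.E_le e.2)) ?_)).symm
      have hc := C.E_comm (inv_mem f.2) (C.E_le e.2)
      calc (k : G) * ((f : G)⁻¹ * e) * (k : G)⁻¹
          = ((k : G) * f * (k : G)⁻¹)⁻¹ * ((k : G) * e * (k : G)⁻¹ * (e : G)⁻¹) * e := by group
        _ = ((k : G) * f * (k : G)⁻¹)⁻¹ * ((k : G) * f * (k : G)⁻¹ * (f : G)⁻¹) * e := by rw [e1]
        _ = (f : G)⁻¹ * e := by group
    obtain ⟨e, he⟩ := Finite.injective_iff_surjective.1 hψ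
      ⟨(((k : G) * x * (k : G)⁻¹)⁻¹ * x)⁻¹, inv_mem h1⟩
    have e1 : (k : G) * e * (k : G)⁻¹ * (e : G)⁻¹ = (((k : G) * x * (k : G)⁻¹)⁻¹ * x)⁻¹ :=
      congrArg Subtype.val he
    rw [mul_inv_rev, inv_inv] at e1
    have hcomm : ∀ z ∈ Q, (k : G) * z * (k : G)⁻¹ * (e : G)⁻¹ = (e : G)⁻¹ * ((k : G) * z * (k : G)⁻¹) :=
      fun z hz => (C.E_comm (inv_mem e.2) (C.hS.conj_mem k k.2.1 z hz)).symm
    have h2 : (k : G) * ((x : G) * (e : G)⁻¹) * (k : G)⁻¹ = (x : G) * (e : G)⁻¹ := by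
      have e2 : (k : G) * e * (k : G)⁻¹ = (x : G)⁻¹ * ((k : G) * x * (k : G)⁻¹) * e := by
        rw [← e1]; group
      calc (k : G) * ((x : G) * (e : G)⁻¹) * (k : G)⁻¹
          = ((k : G) * x * (k : G)⁻¹) * ((k : G) * e * (k : G)⁻¹)⁻¹ := by group
        _ = ((k : G) * x * (k : G)⁻¹ * (e : G)⁻¹) * ((k : G) * x * (k : G)⁻¹)⁻¹ * x := by
            rw [e2]; group
        _ = (e : G)⁻¹ * x := by rw [hcomm x x.2]; group
        _ = (x : G) * (e : G)⁻¹ := C.E_comm (inv_mem e.2) x.2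
    have h3 := C.K_free hk hk1' (mul_mem x.2 (inv_mem (C.E_le e.2))) h2
    rw [mul_inv_eq_one] at h3
    exact h3 ▸ e.2
  have key := C.card_fixed_pow hL φ hfree hu
  set m := orderOf u
  set c := Nat.card {y : Q ⧸ E' // φ ⟨u, (Subgroup.mem_inf.1 hu).1⟩ y = y}
  set q₀ := Nat.card ↥(C.E ⊓ Subgroup.centralizer ({u} : Set G)) with hq₀
  have hquot : Nat.card (Q ⧸ E') = Nat.card C.E ^ 2 := by
    have h1 := E'.card_eq_card_quotient_mul_card_subgroup
    rw [Nat.card_congr (Subgroup.subgroupOfEquivOfLe C.E_le).toEquiv, C.card_Q,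
      pow_succ] at h1
    exact (Nat.eq_of_mul_eq_mul_right Nat.card_pos h1).symm
  have hc : c = q₀ ^ 2 := by
    refine Nat.pow_left_injective (n := m) (orderOf_pos u).ne' ?_
    show c ^ m = (q₀ ^ 2) ^ m
    rw [← key, hquot, C.card_E_pow hu, ← pow_mul, ← pow_mul, mul_comm]
  let Cu := Q ⊓ Subgroup.centralizer ({u} : Set G)
  let π : Cu →* Q ⧸ E' := (QuotientGroup.mk' E').comp (Subgroup.inclusion inf_le_left)
  have hker : Nat.card π.ker = q₀ := by
    refine Nat.card_congr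
      { toFun := fun y => ⟨y.1.1, Subgroup.mem_inf.2 ⟨(QuotientGroup.eq_one_iff (N := E')
          (Subgroup.inclusion inf_le_left y.1)).1 y.2, y.1.2.2⟩⟩
        invFun := fun y => ⟨⟨y.1, C.E_le y.2.1, y.2.2⟩, (QuotientGroup.eq_one_iff (N := E')
          (⟨y.1, C.E_le y.2.1⟩ : Q)).2 y.2.1⟩
        left_inv := fun _ => rfl
        right_inv := fun _ => rfl }
  have hrange : Nat.card π.range = c := by
    refine Nat.card_congr (Equiv.subtypeEquivRight fun y => ?_)
    constructor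
    · rintro ⟨x, rfl⟩
      show ((ρ _ (Subgroup.inclusion inf_le_left x) : Q) : Q ⧸ E') = _
      refine congrArg (QuotientGroup.mk (s := E')) (Subtype.ext ?_)
      rw [hρ]
      exact mul_inv_eq_iff_eq_mul.2 (Subgroup.mem_centralizer_singleton_iff.1 x.2.2).symm
    · intro hy
      obtain ⟨x, rfl⟩ := QuotientGroup.mk_surjective y
      have hy' : ((ρ ⟨u, (Subgroup.mem_inf.1 hu).1⟩ x : Q) : Q ⧸ E') = (x : Q ⧸ E') := hy
      have hy2 := hy'.symm
      rw [QuotientGroup.eq] at hy2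
      obtain ⟨e, he, hfix⟩ := C.exists_fixed_in_coset hu x.2 (show _ ∈ C.E from hy2)
      refine ⟨⟨(x : G) * e, mul_mem x.2 (C.E_le he), Subgroup.mem_centralizer_singleton_iff.2
        (mul_inv_eq_iff_eq_mul.1 hfix).symm⟩, ?_⟩
      refine (QuotientGroup.eq (s := E')).2 ?_
      show ((x : G) * e)⁻¹ * x ∈ C.E
      rw [mul_inv_rev, mul_assoc, inv_mul_cancel, mul_one]
      exact inv_mem he
  rw [← π.ker.card_mul_index, Subgroup.index_ker, hker, hrange, hc, ← pow_succ']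

end Ctx

end Cfsg.Agent.Involutions.RankOne.U3.WNeBot
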