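import Cfsg.Agent.Lib.Involutions.RankOne.U3.WNeBot.Base

/-!
# The case where every element of `C_D(t)` fixes two elements of `E`
-/

set_option autoImplicit false
set_option linter.unusedSectionVars false
set_option linter.style.haveILetI false

namespace Cfsg.Agent.Involutions.RankOne.U3.WNeBot

open MulAction Involutions.Basic

variable {G Ω : Type*} [Group G] [Finite G] [MulAction G Ω] [FaithfulSMul G Ω]
  {a : Ω} {t : G} {Q : Subgroup G}

local notation "H" => MulAction.stabilizer G a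
local notation "D" => (MulAction.stabilizer G a ⊓ MulAction.stabilizer G (t • a))
set_option quotPrecheck false in
local notation "V" => (D ⊓ Subgroup.centralizer ({t} : Set G))

/-- `C_D(t) = ⟨v⟩` of prime order `p`, `|E| = 2 ^ p` and `|C_E(v)| = 2`. -/
structure Small (C : Ctx G Ω a t Q) (v : G) (p : ℕ) : Prop where
  gen : Subgroup.zpowers v = V
  prime : p.Prime
  three_le : 3 ≤ p
  order : orderOf v = p
  card_E : Nat.card C.E = 2 ^ p
  card_fix_E : Nat.card ↥(C.E ⊓ Subgroup.centralizer ({v} : Set G)) = 2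

namespace Ctx

variable (C : Ctx G Ω a t Q)
include C

theorem exists_small (hV : V ≠ ⊥)
    (h : ∀ u ∈ V, u ≠ 1 → Nat.card ↥(C.E ⊓ Subgroup.centralizer ({u} : Set G)) < 4) :
    ∃ v p, Small C v p := by
  obtain ⟨v, hv⟩ := C.V_cyclic
  obtain ⟨s, hs, hs1, hVs⟩ := C.exists_s
  have hvV : v ∈ V := hv ▸ Subgroup.mem_zpowers v
  have htwo : ∀ u ∈ V, u ≠ 1 → Nat.card ↥(C.E ⊓ Subgroup.centralizer ({u} : Set G)) = 2 := by
    intro u hu hu1
    have hsu : s ∈ C.E ⊓ Subgroup.centralizer ({u} : Set G) := Subgroup.mem_inf.2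
      ⟨hs, Subgroup.mem_centralizer_singleton_iff.2 ((hVs u (Subgroup.mem_inf.1 hu).1).1 hu).symm⟩
    have h2 := orderOf_dvd_natCard (⟨s, hsu⟩ : ↥(C.E ⊓ Subgroup.centralizer ({u} : Set G)))
    rw [← Subgroup.orderOf_coe, orderOf_two_iff.2 ⟨C.E_sq hs, hs1⟩] at h2
    have h4 := h u hu hu1
    have h0 : 0 < Nat.card ↥(C.E ⊓ Subgroup.centralizer ({u} : Set G)) := Nat.card_pos
    omega
  have hv1 : v ≠ 1 := fun e => hV (by rw [← hv, e, Subgroup.zpowers_one_eq_bot])
  have hE : Nat.card C.E = 2 ^ orderOf v := by rw [C.card_E_pow hvV, htwo v hvV hv1]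
  have hne : orderOf v ≠ 1 := fun e => hv1 (orderOf_eq_one_iff.1 e)
  have hprime : (orderOf v).Prime := by
    obtain ⟨r, hr, hrd⟩ := Nat.exists_prime_and_dvd hne
    obtain ⟨m, hm⟩ := hrd
    have hu : v ^ m ∈ V := pow_mem hvV m
    have hord : orderOf (v ^ m) = r := by
      have hm0 : 0 < m := by
        rcases Nat.eq_zero_or_pos m with rfl | h'
        · exact absurd (by simpa using hm) (orderOf_pos v).ne'
        · exact h'
      rw [orderOf_pow_of_dvd hm0.ne' ⟨r, by rw [hm, mul_comm]⟩, hm, Nat.mul_div_cancel _ hm0]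
    have hu1 : v ^ m ≠ 1 := fun e => hr.ne_one (by rw [← hord, e, orderOf_one])
    have := C.card_E_pow hu
    rw [htwo _ hu hu1, hord, hE] at this
    exact (Nat.pow_right_injective (le_refl 2) this) ▸ hr
  refine ⟨v, orderOf v, hv, hprime, ?_, rfl, hE, htwo v hvV hv1⟩
  obtain ⟨j, hj⟩ := C.odd_V hvV
  have := hprime.two_le
  omega

end Ctx

namespace Small

variable {C : Ctx G Ω a t Q} {v : G} {p : ℕ} (S : Small C v p)
include S

theorem mem : v ∈ V := S.gen ▸ Subgroup.mem_zpowers v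

theorem card_fix : Nat.card ↥(Q ⊓ Subgroup.centralizer ({v} : Set G)) = 8 := by
  rw [C.card_cent_Q S.mem, S.card_fix_E]
  rfl

theorem card_fixed_points : Nat.card {c : Ω // v • c = c} = 9 := by
  classical
  haveI := finite_points C.hS
  have hv := S.mem
  have hvD : v ∈ D := (Subgroup.mem_inf.1 hv).1
  have e : Nat.card ↥(Q ⊓ Subgroup.centralizer ({v} : Set G)) =
      Nat.card {c : {c : Ω // v • c = c} // c.1 ≠ a} := by
    refine Nat.card_eq_of_bijective (fun x => ⟨⟨(x : G) • (t • a), ?_⟩,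
      smul_a_ne C.hS (C.hS.le (Subgroup.mem_inf.1 x.2).1) (b_ne C.hS)⟩) ⟨fun x y e => ?_, fun c => ?_⟩
    · rw [smul_smul, ← Subgroup.mem_centralizer_singleton_iff.1 (Subgroup.mem_inf.1 x.2).2, mul_smul,
        show v • (t • a) = t • a from hvD.2]
    · exact Subtype.ext (q_unique C.hS (Subgroup.mem_inf.1 x.2).1 (Subgroup.mem_inf.1 y.2).1
        (b_ne C.hS) (congrArg (fun c => c.1.1) e))
    · obtain ⟨x, hx, hxc⟩ := exists_q C.hS c.2
      have hxv := q_centralizes C.hS (X := {v}) (Set.singleton_subset_iff.2 hvD) hx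
        (by rintro y (rfl : y = v); rw [hxc]; exact c.1.2)
      exact ⟨⟨x, Subgroup.mem_inf.2 ⟨hx, hxv⟩⟩, Subtype.ext (Subtype.ext hxc)⟩
  have e2 : Nat.card {c : Ω // v • c = c} =
      Nat.card {c : {c : Ω // v • c = c} // c.1 ≠ a} + 1 := by
    rw [← Finite.card_option]
    refine Nat.card_congr ((Equiv.optionSubtypeNe (⟨a, hvD.1⟩ : {c : Ω // v • c = c})).symm.trans
      (Equiv.optionCongr (Equiv.subtypeEquivRight fun c => ?_)))
    simp [Subtype.ext_iff]
  rw [e2, ← e, S.card_fix]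

end Small

end Cfsg.Agent.Involutions.RankOne.U3.WNeBot
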